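import Groth.Agent.FlatBlowUp.Closed
import Groth.Agent.FittLib.StrictTransform

/-!
# Flattening of the strict transform of a module by an admissible blow-up
-/

set_option autoImplicit false
set_option linter.style.haveILetI false
set_option backward.isDefEq.respectTransparency false
set_option backward.isDefEq.respectTransparency.types false

universe u

open CategoryTheory CategoryTheory.Limits AlgebraicGeometry TopologicalSpace Opposite MvPolynomial Groth.Agent.QC

noncomputable section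

namespace Groth.Agent.FlatBlowUp

open FlatSpread RZExt

variable {X S : Scheme.{u}}

theorem isFP_congr {M N : X.Modules} (e : M ≅ N) (h : CohB1.IsFP M) : CohB1.IsFP N :=
  isFP_iff_exists_hasFinPres.2 fun x => by
    obtain ⟨U, hx, P, hP⟩ := isFP_iff_exists_hasFinPres.1 h x
    haveI := hP
    exact ⟨U, hx, SheafOfModules.Presentation.ofIsIso.{u} ((Scheme.Modules.restrictFunctor U.ι).mapIso e).hom P,
      inferInstance⟩

theorem goodOverU_of_module (f : X ⟶ S) [LocallyOfFinitePresentation f] (U : S.Opens) (F : X.Modules)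
    (hqc : Coh.IsQCoh F) (hfpU : CohB1.IsFP ((Scheme.Modules.pullback (f ⁻¹ᵁ U).ι).obj F))
    (hflU : ∀ x : X, f.base x ∈ U → FlatMod.IsFlatOverAt f F x) : GoodOverU f U F := by
  intro D V e hD hV hDU
  refine ⟨HasRingHomProperty.appLE @LocallyOfFinitePresentation f inferInstance ⟨D, hD⟩ ⟨V, hV⟩ e, ?_,
    (FlatModB.flat_sections_iff f F hqc hV hD e).2 fun x hx => hflU x (hDU (e hx))⟩
  have hres : CohB1.IsFP (F.restrict (f ⁻¹ᵁ U).ι) :=
    isFP_congr ((Scheme.Modules.restrictFunctorIsoPullback (f ⁻¹ᵁ U).ι).app F).symm hfpU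
  refine LocFree.finitePresentation_sections_of_local hqc hV fun x hx => ?_
  obtain ⟨W, hxW, hW⟩ := isFP_iff_exists_hasFinPres.1 hres ⟨x, hDU (e hx)⟩
  exact ⟨(f ⁻¹ᵁ U).ι ''ᵁ W, ⟨⟨x, hDU (e hx)⟩, hxW, rfl⟩, fun D' hD' hle =>
    LocFree.fp_of_hasFinPres hqc hD' (hW.image.mono hle)⟩

/-- finite generators of a module on a piece -/
theorem exists_gens (F : X.Modules) (hqc : Coh.IsQCoh F) (hft : CohB1.IsFT F) (V : X.affineOpens) :
    ∃ (k : ℕ) (m : Fin k → Γ(F, V.1)), Submodule.span Γ(X, V.1) (Set.range m) = ⊤ := by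
  haveI : F.IsQuasicoherent := hqc
  haveI := QC.finite_sections V.2 (hM := hqc) hft
  exact Module.Finite.exists_fin (R := Γ(X, V.1)) (M := Γ(F, V.1))

/-- killed by a power of a principal ideal -/
theorem killed_iff_of_span {E : X.IdealSheafData} {V : X.affineOpens} {a : Γ(X, V.1)}
    (h : E.ideal V = Ideal.span {a}) (M : X.Modules) (m : Γ(M, V.1)) :
    BlowUp.KilledByPowerNear E M V m ↔ ∃ n : ℕ, a ^ n • m = 0 := by
  have e : ∀ n : ℕ, (E ^ n).ideal V = Ideal.span {a ^ n} := fun n => by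
    rw [Scheme.IdealSheafData.ideal_pow, Pi.pow_apply, h, Ideal.span_singleton_pow]
  refine exists_congr fun n => ⟨fun H => H _ (by rw [e]; exact Ideal.mem_span_singleton_self _),
    fun H c hc => ?_⟩
  rw [e, Ideal.mem_span_singleton'] at hc
  obtain ⟨d, rfl⟩ := hc
  rw [mul_smul, H, smul_zero]

theorem span_basicOpen {E : X.IdealSheafData} {V : X.affineOpens} {a : Γ(X, V.1)}
    (h : E.ideal V = Ideal.span {a}) (g : Γ(X, V.1)) :
    E.ideal (X.affineBasicOpen g) = Ideal.span {resO X (X.basicOpen_le g) a} := by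
  rw [← E.map_ideal_basicOpen V g, h, Ideal.map_span, Set.image_singleton]

/-- the quotient by the sections killed by a power of a locally principal ideal is quasi-coherent -/
theorem isQCoh_quotient (E : X.IdealSheafData)
    (hE : ∀ x : X, ∃ (V : X.affineOpens) (a : Γ(X, V.1)), x ∈ V.1 ∧ E.ideal V = Ideal.span {a})
    {P G : X.Modules} (hP : Coh.IsQCoh P) (π : P ⟶ G) [Epi π]
    (hπ : ∀ (V : X.affineOpens) (m : Γ(P, V.1)), π.app V.1 m = 0 ↔ BlowUp.KilledByPowerNear E P V m) :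
    Coh.IsQCoh G := by
  haveI : P.IsQuasicoherent := hP
  have hK : Coh.IsQCoh (kernel π) := by
    refine isQCoh_of_isLoc fun x => ?_
    obtain ⟨V, a, hxV, hV⟩ := hE x
    have hloc := isLoc_of_isQCoh (M := P) V.2 (hM := hP)
    refine ⟨V.1, V.2, hxV, ⟨fun g t => ?_, fun g s hs => ?_⟩⟩
    · set t' := (kernel.ι π).app (X.basicOpen g) t
      have ht' : π.app (X.basicOpen g) t' = 0 := (mem_range_kernel_app π _ t').mp ⟨t, rfl⟩
      obtain ⟨n, s, hs⟩ := hloc.exists_extend g t'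
      obtain ⟨N, hN⟩ := (killed_iff_of_span (span_basicOpen hV g) _ _).mp ((hπ (X.affineBasicOpen g) t').mp ht')
      have h0 : res _ (X.basicOpen_le g) (a ^ N • s) = 0 := by
        rw [res_smul, hs, map_pow, smul_comm]
        exact (congrArg _ hN).trans (smul_zero _)
      obtain ⟨m, hm⟩ := hloc.exists_pow_smul_eq_zero g _ h0
      have h1 : π.app V.1 (g ^ m • s) = 0 :=
        (hπ V _).mpr ((killed_iff_of_span hV _ _).mpr ⟨N, by rw [smul_comm]; exact hm⟩)
      obtain ⟨s', hs'⟩ := (mem_range_kernel_app π _ _).mpr h1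
      refine ⟨m + n, s', app_injective_of_mono (kernel.ι π) _ ?_⟩
      rw [← app_res, hs', res_smul, hs, map_pow, pow_add, mul_smul, Scheme.Modules.Hom.app_smul,
        Scheme.Modules.Hom.app_smul]
    · have h0 : res _ (X.basicOpen_le g) ((kernel.ι π).app V.1 s) = 0 := by
        rw [app_res, hs, map_zero]
      obtain ⟨n, hn⟩ := hloc.exists_pow_smul_eq_zero g _ h0
      exact ⟨n, app_injective_of_mono (kernel.ι π) _ (by
        rw [Scheme.Modules.Hom.app_smul, hn, map_zero])⟩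
  exact isQCoh_of_iso ((cokernelIsCokernel (kernel.ι π)).coconePointUniqueUpToIso
    (Abelian.epiIsCokernelOfKernel _ (limit.isLimit _))) (isQCoh_cokernel hK hP _)

set_option maxHeartbeats 1600000 in
/-- **Flattening by an admissible blow-up (Raynaud-Gruson), for modules.** -/
theorem exists_flattening_centre_module [CompactSpace S] [QuasiSeparatedSpace S] [CompactSpace X] (f : X ⟶ S)
    [LocallyOfFinitePresentation f] (U : S.Opens) (hU : IsCompact (U : Set S)) (F : X.Modules)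
    (hqc : Coh.IsQCoh F) (hft : CohB1.IsFT F)
    (hfpU : CohB1.IsFP ((Scheme.Modules.pullback (f ⁻¹ᵁ U).ι).obj F))
    (hflU : ∀ x : X, f.base x ∈ U → FlatMod.IsFlatOverAt f F x) :
    ∃ J₀ : Centre U, ∀ J, J₀ ≤ J → ∀ (X' : Scheme.{u}) (p₁ : X' ⟶ X) (p₂ : X' ⟶ J.T), IsPullback p₁ p₂ f J.b →
      ∀ (G : X'.Modules) (π : (Scheme.Modules.pullback p₁).obj F ⟶ G),
        BlowUp.IsStrictTransform p₁ (J.ideal.comap f) F G π → CohB1.IsFP G ∧ FlatMod.IsFlatOver p₂ G := by
  classical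
  obtain ⟨r, W, V, hVW, n, πv, hπv, hcov⟩ := exists_pieces f
  choose k m hm using fun i => exists_gens F hqc hft (V i)
  choose J₀ hJ₀ using fun i => exists_centre_piece hU (goodOverU_of_module f U F hqc hfpU hflU) hqc (W i) (V i).2
    (hVW i) (πv i) (hπv i).1 (hπv i).2 (m i) (hm i)
  haveI := nonempty_centre U hU
  obtain ⟨J₁, hJ₁⟩ := Directed.finset_le (r := (· ≤ ·)) (f := id) (directed_id) (Finset.univ.image J₀)
  refine ⟨J₁, fun J hJ X' p₁ p₂ hpb Gm π hπ => ?_⟩
  haveI : Epi π := hπ.1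
  haveI : F.IsQuasicoherent := hqc
  let P := (Scheme.Modules.pullback p₁).obj F
  have hP : Coh.IsQCoh P := isQCoh_pullback p₁ hqc
  have hE : (J.ideal.comap f).comap p₁ = (J.ideal.comap J.b).comap p₂ := by
    rw [← Scheme.IdealSheafData.comap_comp, hpb.w, Scheme.IdealSheafData.comap_comp]
  have hG : Coh.IsQCoh Gm := by
    refine isQCoh_quotient ((J.ideal.comap f).comap p₁) (fun x => ?_) hP π hπ.2
    obtain ⟨V', e, hx, -, he⟩ := IsTorsionIdeal.exists_small J.isBlowUp.1 p₂ x ⊤ trivial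
    exact ⟨V', e, hx, by rw [hE]; exact he⟩
  suffices key : ∀ x : X', ∃ O : X'.Opens, x ∈ O ∧ IsAffineOpen O ∧ Module.FinitePresentation Γ(X', O) Γ(Gm, O) ∧
      FlatMod.IsFlatOverAt p₂ Gm x by
    refine ⟨isFP_iff_exists_hasFinPres.2 fun x => ?_, fun x => ?_⟩
    · obtain ⟨O, hx, hO, hfp, -⟩ := key x
      haveI : Gm.IsQuasicoherent := hG
      exact ⟨O, hx, hasFinPres_of_finitePresentation hO (hM := hG)⟩
    · obtain ⟨O, -, -, -, h⟩ := key x
      exact h
  intro x
  obtain ⟨i, hxi⟩ := hcov (p₁ x)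
  have htW : J.b (p₂ x) ∈ (W i).1 := by
    rw [← Scheme.Hom.comp_apply p₂ J.b, ← hpb.w, Scheme.Hom.comp_apply]
    exact hVW i hxi
  obtain ⟨G, hGW, g, htG, hg, hgen, hgood⟩ :=
    hJ₀ i J ((hJ₁ _ (Finset.mem_image_of_mem _ (Finset.mem_univ i))).trans hJ) _ htW
  obtain ⟨π', m', hπ', hm', hrel, -⟩ := exists_presentation_piece hpb (W i).2 (V i).2 (hVW i) G.2 hGW
    hqc (πv i) (hπv i).1 (hπv i).2 (m i) (hm i)
  let O : X'.Opens := p₁ ⁻¹ᵁ (V i).1 ⊓ p₂ ⁻¹ᵁ G.1
  have hO : IsAffineOpen O := isAffineOpen_piece hpb (W i).2 (V i).2 (hVW i) G.2 hGW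
  let A' := Γ(J.T, G.1)
  let B' := Γ(X', O)
  letI : Algebra A' B' := (p₂.appLE G.1 O inf_le_right).hom.toAlgebra
  letI := FlatModB.secModule p₂ P O G.1 inf_le_right
  haveI : IsScalarTower A' B' Γ(P, O) := IsScalarTower.of_algebraMap_smul fun _ _ => rfl
  letI := FlatModB.secModule p₂ Gm O G.1 inf_le_right
  haveI : IsScalarTower A' B' Γ(Gm, O) := IsScalarTower.of_algebraMap_smul fun _ _ => rfl
  have hEO : ((J.ideal.comap f).comap p₁).ideal ⟨O, hO⟩ = Ideal.span {algebraMap A' B' g} := by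
    rw [hE, FpqcDescent.ideal_comap_appLE _ p₂ G ⟨O, hO⟩ inf_le_right, hgen, Ideal.map_span, Set.image_singleton]
    rfl
  let r' : Γ(P, O) →ₗ[B'] Γ(Gm, O) :=
    { toFun := π.app O
      map_add' := map_add _
      map_smul' := fun c y => π.app_smul c y }
  have hker : ∀ y, r' y = 0 ↔ ∃ k : ℕ, g ^ k • y = 0 := fun y => by
    refine (hπ.2 ⟨O, hO⟩ y).trans ((killed_iff_of_span hEO P y).trans (exists_congr fun k => ?_))
    rw [← map_pow, algebraMap_smul]
  have hsurj : Function.Surjective r' := app_surjective_of_epi hO hP hG π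
  have hsat := (congrArg (sat g) hrel.symm).trans (sat_relSub π' m' r' g hker)
  have h1 : Submodule.span B' (Set.range fun j => r' (m' j)) = ⊤ := by
    rw [show (fun j => r' (m' j)) = r' ∘ m' from rfl, Set.range_comp, Submodule.span_image, hm', Submodule.map_top,
      LinearMap.range_eq_top.2 hsurj]
  obtain ⟨hfg, hflat⟩ := hgood
  refine ⟨O, ⟨hxi, htG⟩, hO, finitePresentation_of_fg_relSub hπ' h1 (hsat ▸ hfg), ?_⟩
  exact (FlatModB.flat_sections_iff p₂ Gm hG hO G.2 inf_le_right).1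
    ((flat_quot_relSub_iff hπ' h1).1 (flat_quot_congr hsat hflat)) x ⟨hxi, htG⟩

end Groth.Agent.FlatBlowUp
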