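import Groth.Agent.FlatBlowUp.Pres
import Groth.Agent.FlatLimMod.Basic

/-!
# Presentations on an affine piece of a cartesian square
-/

set_option autoImplicit false
set_option linter.style.haveILetI false
set_option backward.isDefEq.respectTransparency false
set_option backward.isDefEq.respectTransparency.types false

universe u

open CategoryTheory CategoryTheory.Limits AlgebraicGeometry TopologicalSpace Opposite TensorProduct MvPolynomial

noncomputable section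

namespace Groth.Agent.FlatBlowUp

open FlatSpread

variable {S X S' X' : Scheme.{u}} {f : X ⟶ S} {b : S' ⟶ S} {p₁ : X' ⟶ X} {p₂ : X' ⟶ S'}
  (hpb : IsPullback p₁ p₂ f b) {W : S.Opens} (hW : IsAffineOpen W) {V : X.Opens} (hV : IsAffineOpen V)
  (hVW : V ≤ f ⁻¹ᵁ W) {G : S'.Opens} (hG : IsAffineOpen G) (hGW : G ≤ b ⁻¹ᵁ W)

include hpb hW hV hVW hG hGW in
theorem isAffineOpen_piece : IsAffineOpen (p₁ ⁻¹ᵁ V ⊓ p₂ ⁻¹ᵁ G) := by
  haveI : IsAffine _ := hW
  haveI : IsAffine _ := hV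
  haveI : IsAffine _ := hG
  exact .of_isIso (Scheme.Hom.isPullback_resLE hpb hGW hVW (rfl : p₁ ⁻¹ᵁ V ⊓ p₂ ⁻¹ᵁ G = _)).isoPullback.hom

set_option maxHeartbeats 1600000 in
include hpb hW hV hVW hG hGW in
/-- **Presentations on a piece of a square.** -/
theorem exists_presentation_piece {F : X.Modules} (hF : Coh.IsQCoh F) {n k : ℕ}
    (π : MvPolynomial (Fin n) Γ(S, W) →+* Γ(X, V)) (hπC : ∀ a, π (C a) = (f.appLE W V hVW).hom a)
    (hπ : Function.Surjective π) (m : Fin k → Γ(F, V)) (hm : Submodule.span Γ(X, V) (Set.range m) = ⊤) :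
    letI : Algebra Γ(S, W) Γ(X, V) := (f.appLE W V hVW).hom.toAlgebra
    letI := FlatModB.secModule f F V W hVW
    haveI : IsScalarTower Γ(S, W) Γ(X, V) Γ(F, V) := IsScalarTower.of_algebraMap_smul fun _ _ => rfl
    letI : Algebra Γ(S', G) Γ(X', p₁ ⁻¹ᵁ V ⊓ p₂ ⁻¹ᵁ G) := (p₂.appLE G _ inf_le_right).hom.toAlgebra
    letI := FlatModB.secModule p₂ ((Scheme.Modules.pullback p₁).obj F) (p₁ ⁻¹ᵁ V ⊓ p₂ ⁻¹ᵁ G) G inf_le_right
    haveI : IsScalarTower Γ(S', G) Γ(X', p₁ ⁻¹ᵁ V ⊓ p₂ ⁻¹ᵁ G)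
        Γ((Scheme.Modules.pullback p₁).obj F, p₁ ⁻¹ᵁ V ⊓ p₂ ⁻¹ᵁ G) := IsScalarTower.of_algebraMap_smul fun _ _ => rfl
    ∃ (π' : MvPolynomial (Fin n) Γ(S', G) →ₐ[Γ(S', G)] Γ(X', p₁ ⁻¹ᵁ V ⊓ p₂ ⁻¹ᵁ G))
      (m' : Fin k → Γ((Scheme.Modules.pullback p₁).obj F, p₁ ⁻¹ᵁ V ⊓ p₂ ⁻¹ᵁ G)),
      Function.Surjective π' ∧ Submodule.span Γ(X', p₁ ⁻¹ᵁ V ⊓ p₂ ⁻¹ᵁ G) (Set.range m') = ⊤ ∧
      relSub π' m' = ext (b.appLE W G hGW).hom
        (relSub ({ π with commutes' := hπC } : MvPolynomial (Fin n) Γ(S, W) →ₐ[Γ(S, W)] Γ(X, V)) m) ∧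
      relSub π' (fun _ : Fin 1 => (1 : Γ(X', p₁ ⁻¹ᵁ V ⊓ p₂ ⁻¹ᵁ G))) = ext (b.appLE W G hGW).hom
        (relSub ({ π with commutes' := hπC } : MvPolynomial (Fin n) Γ(S, W) →ₐ[Γ(S, W)] Γ(X, V))
          (fun _ : Fin 1 => (1 : Γ(X, V)))) := by
  let O : X'.Opens := p₁ ⁻¹ᵁ V ⊓ p₂ ⁻¹ᵁ G
  have hO : IsAffineOpen O := isAffineOpen_piece hpb hW hV hVW hG hGW
  have hP := (isIso_pushoutSection_iff hpb hGW hVW (rfl : O = _)).1
    (isIso_pushoutSection_of_isAffineOpen hpb hGW hVW rfl hW hG hV)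
  let A := Γ(S, W)
  let B := Γ(X, V)
  let A' := Γ(S', G)
  let B' := Γ(X', O)
  let P := (Scheme.Modules.pullback p₁).obj F
  letI : Algebra A A' := (b.appLE W G hGW).hom.toAlgebra
  letI : Algebra A B := (f.appLE W V hVW).hom.toAlgebra
  letI : Algebra B B' := (p₁.appLE V O inf_le_left).hom.toAlgebra
  letI : Algebra A' B' := (p₂.appLE G O inf_le_right).hom.toAlgebra
  letI : Algebra A B' := ((algebraMap B B').comp (algebraMap A B)).toAlgebra
  haveI : IsScalarTower A B B' := IsScalarTower.of_algebraMap_eq fun _ => rfl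
  haveI : IsScalarTower A A' B' := IsScalarTower.of_algebraMap_eq fun r => congr($(hP.w).hom r)
  haveI : Algebra.IsPushout A B A' B' := CommRingCat.isPushout_iff_isPushout.1 hP
  haveI : Algebra.IsPushout A A' B B' := Algebra.IsPushout.symm inferInstance
  letI := FlatModB.secModule f F V W hVW
  haveI : IsScalarTower A B Γ(F, V) := IsScalarTower.of_algebraMap_smul fun _ _ => rfl
  letI := FlatModB.secModule p₂ P O G inf_le_right
  haveI : IsScalarTower A' B' Γ(P, O) := IsScalarTower.of_algebraMap_smul fun _ _ => rfl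
  letI : Module A Γ(P, O) := Module.compHom Γ(P, O) (algebraMap A A')
  haveI : IsScalarTower A A' Γ(P, O) := IsScalarTower.of_algebraMap_smul fun _ _ => rfl
  let ψ : B →+* B' := algebraMap B B'
  have hψC : ∀ a, ψ (algebraMap A B a) = algebraMap A' B' (algebraMap A A' a) := fun a =>
    (IsScalarTower.algebraMap_apply A A' B' a)
  haveI : Coh.IsQCoh F := hF
  obtain ⟨Φ, hΦ⟩ := ModDesc.exists_bijective_liftBaseChange p₁ F hV hO inf_le_left
  let l : Γ(F, V) →ₗ[A] Γ(P, O) :=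
    { toFun := ModDesc.pullSectLE p₁ F V O inf_le_left
      map_add' := map_add _
      map_smul' := fun r s => by
        rw [← algebraMap_smul B r s, ModDesc.pullSectLE_smul]
        show ψ (algebraMap A B r) • (ModDesc.pullSectLE p₁ F V O inf_le_left s : Γ(P, O)) =
          algebraMap A' B' (algebraMap A A' r) • (ModDesc.pullSectLE p₁ F V O inf_le_left s : Γ(P, O))
        rw [hψC] }
  have hl : ∀ c y, l (c • y) = ψ c • l y := fun c y => ModDesc.pullSectLE_smul p₁ F V O inf_le_left c y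
  let e : A' ⊗[A] Γ(F, V) ≃ₗ[A'] Γ(P, O) :=
    (Algebra.IsPushout.cancelBaseChange A A' B B' Γ(F, V)).symm.trans (Φ.restrictScalars A')
  have hbc : IsBaseChange A' l := IsBaseChange.of_equiv e fun y => by
    show Φ ((Algebra.IsPushout.cancelBaseChange A A' B B' Γ(F, V)).symm (1 ⊗ₜ y)) = l y
    rw [Algebra.IsPushout.cancelBaseChange_symm_tmul, map_one]
    exact hΦ y
  let πA : MvPolynomial (Fin n) A →ₐ[A] B := { π with commutes' := hπC }
  let π' : MvPolynomial (Fin n) A' →ₐ[A'] B' := aeval fun i => ψ (πA (MvPolynomial.X i))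
  have hψX : ∀ i, ψ (πA (MvPolynomial.X i)) = π' (MvPolynomial.X i) := fun i =>
    (aeval_X (fun i => ψ (πA (MvPolynomial.X i))) i).symm
  obtain ⟨hrel, hsurj⟩ := relSub_baseChange (π := πA) hπ hm π' ψ hψC hψX l hl hbc
  have h1 : Submodule.span B (Set.range fun _ : Fin 1 => (1 : B)) = ⊤ := eq_top_iff.2 fun y _ =>
    (Submodule.mem_span_range_iff_exists_fun B).2 ⟨fun _ => y, by simp⟩
  obtain ⟨hrel1, hsurj1⟩ := relSub_baseChange (π := πA) hπ (m := fun _ : Fin 1 => (1 : B)) h1 π' ψ hψC hψX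
    (IsScalarTower.toAlgHom A B B').toLinearMap (fun c y => map_mul ψ c y) Algebra.IsPushout.out
  have hone : (fun _ : Fin 1 => (IsScalarTower.toAlgHom A B B').toLinearMap (1 : B)) = fun _ => (1 : B') :=
    funext fun _ => map_one (IsScalarTower.toAlgHom A B B')
  refine ⟨π', fun i => l (m i), fun y => ?_, eq_top_iff.2 fun y _ => ?_, hrel, hone ▸ hrel1⟩
  · obtain ⟨x, hx⟩ := hsurj1 y
    refine ⟨x 0, ?_⟩
    rw [qMap_apply, Fin.sum_univ_one] at hx
    rw [congrFun hone 0, smul_eq_mul, mul_one] at hx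
    exact hx
  · obtain ⟨x, hx⟩ := hsurj y
    rw [← hx, qMap_apply]
    exact Submodule.sum_mem _ fun i _ =>
      Submodule.smul_mem _ _ (Submodule.subset_span (Set.mem_range_self (f := fun i => l (m i)) i))

end Groth.Agent.FlatBlowUp
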