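import Groth.Agent.S14793
import Groth.Agent.S14785
import Groth.Agent.S14786
import Groth.Agent.AbsApprox.Immersion
import Groth.Agent.LimModel.FgSubalgebra
import Groth.Agent.LimMore.OverBase
import Groth.Agent.ProperModel.Basic
import Groth.Agent.GrpdFit.Ideal
import Groth.Agent.DvrDom.ClosedProper
import Mathlib

/-!
# Refinements by a flat surjective morphism followed by a proper surjective one
-/

set_option autoImplicit false
set_option linter.style.haveILetI false
set_option backward.isDefEq.respectTransparency false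
set_option backward.isDefEq.respectTransparency.types false

universe u

open CategoryTheory CategoryTheory.Limits AlgebraicGeometry TopologicalSpace

noncomputable section

namespace Groth.Agent.FlatBlowUp

open LimDesc

instance : MorphismProperty.IsStableUnderBaseChange Subtr.UnivSSubtrusive.{u} :=
  MorphismProperty.universally_isStableUnderBaseChange _

/-- An open quasi-compact surjection is S-subtrusive after every base change. -/
theorem univSSubtrusive_of_universallyOpen {X Y : Scheme.{u}} (f : X ⟶ Y) [UniversallyOpen f] [QuasiCompact f]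
    [Surjective f] : Subtr.UnivSSubtrusive f := by
  intro X' Y' i₁ i₂ f' h y y' hy
  haveI : UniversallyOpen f' := MorphismProperty.of_isPullback h.flip ‹UniversallyOpen f›
  haveI : QuasiCompact f' := MorphismProperty.of_isPullback h.flip ‹QuasiCompact f›
  haveI : Surjective f' := MorphismProperty.of_isPullback h.flip ‹Surjective f›
  obtain ⟨x, rfl⟩ := f'.surjective y
  let j := pullback.fst f' (Y'.fromSpecResidueField y')
  haveI : QuasiCompact (Y'.fromSpecResidueField y') := inferInstance
  have hr : Set.range j = f' ⁻¹' {y'} := by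
    rw [Scheme.Pullback.range_fst, Scheme.range_fromSpecResidueField]
  have hx : x ∈ closure (Set.range j) := by
    rw [hr]
    refine mem_closure_iff.2 fun O hO hxO => ?_
    obtain ⟨z, hz, hz'⟩ := hy.mem_open ((f'.isOpenMap O hO)) ⟨x, hxO, rfl⟩
    exact ⟨z, hz, hz'⟩
  obtain ⟨w, hw⟩ := FpqcDescent.exists_specializes_of_mem_closure j hx
  exact ⟨x, j w, hw, rfl, (Set.ext_iff.1 hr _).1 ⟨w, rfl⟩⟩

theorem finite_maximalPts (X : Scheme.{u}) [IsNoetherian X] :
    {y : X | ∀ y' : X, y' ⤳ y → y' = y}.Finite := by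
  refine (genericPoints.finite finite_irreducibleComponents_of_isNoetherian).subset fun y hy => ?_
  have hη := (isIrreducible_irreducibleComponent (x := y)).isGenericPoint_genericPoint
    isClosed_irreducibleComponent
  rw [hy _ (hη.specializes mem_irreducibleComponent)] at hη
  show closure {y} ∈ irreducibleComponents X
  rw [hη.def]
  exact irreducibleComponent_mem_irreducibleComponents y

set_option maxHeartbeats 800000 in
/-- Over a noetherian base: flattening over the reduction, with the strict transform inside the fibre product. -/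
theorem exists_refinement_of_noetherian {X Y : Scheme.{u}} [IsNoetherian Y] (f : X ⟶ Y)
    [LocallyOfFinitePresentation f] [QuasiCompact f] [QuasiSeparated f] (hf : Subtr.UnivSSubtrusive f) :
    ∃ (Y' : Scheme.{u}) (q : Y' ⟶ Y) (X' : Scheme.{u}) (r : X' ⟶ pullback f q), IsProper q ∧ Surjective q ∧
      LocallyOfFinitePresentation q ∧ IsClosedImmersion r ∧ (UniversallyOpen f → Surjective r) ∧
      Flat (r ≫ pullback.snd f q) ∧ Surjective (r ≫ pullback.snd f q) ∧
      LocallyOfFinitePresentation (r ≫ pullback.snd f q) ∧ QuasiCompact (r ≫ pullback.snd f q) ∧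
      QuasiSeparated (r ≫ pullback.snd f q) := by
  let N := Y.nilradical
  let ι := N.subschemeι
  haveI : Surjective ι := ⟨fun y => by
    have h : y ∈ Set.range ι := by
      rw [show Set.range ι = _ from N.range_subschemeι, Scheme.support_nilradical]
      trivial
    exact h⟩
  haveI : AlgebraicGeometry.IsReduced N.subscheme := by
    rw [show N = Scheme.IdealSheafData.vanishingIdeal (⊤ : Closeds Y) from
      Scheme.IdealSheafData.vanishingIdeal_top.symm]
    exact DvrDom.isReduced_vanishingIdeal_subscheme _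
  haveI : CompactSpace N.subscheme := QuasiCompact.compactSpace_of_compactSpace ι
  haveI : IsLocallyNoetherian N.subscheme := LocallyOfFiniteType.isLocallyNoetherian ι
  haveI : IsNoetherian N.subscheme := ⟨⟩
  let fr := pullback.snd f ι
  haveI : LocallyOfFinitePresentation fr := MorphismProperty.pullback_snd _ _ ‹_›
  haveI : QuasiCompact fr := MorphismProperty.pullback_snd _ _ ‹_›
  haveI : QuasiSeparated fr := MorphismProperty.pullback_snd _ _ ‹_›
  have hfr : Subtr.UnivSSubtrusive fr :=
    MorphismProperty.of_isPullback (IsPullback.of_hasPullback f ι) hf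
  obtain ⟨U, 𝓘, Y', b, hUd, -, hb, hadm, hsurj, hall⟩ :=
    Groth.Agent.S14793.result (finite_maximalPts _).isCompact fr hfr
  haveI := hsurj
  haveI : IsProper b := BlowUpExist.isProper_of_isFiniteType hb hadm.1
  let q := b ≫ ι
  haveI : IsProper q := inferInstanceAs (IsProper (b ≫ ι))
  haveI : Surjective q := inferInstanceAs (Surjective (b ≫ ι))
  haveI : LocallyOfFinitePresentation q := AbsApprox.lfp_of_lft_noetherian q
  let p₁' := pullback.fst f q
  let p₂ := pullback.snd f q
  let p₁ := pullback.lift p₁' (p₂ ≫ b) (show p₁' ≫ f = (p₂ ≫ b) ≫ ι by rw [Category.assoc]; exact pullback.condition)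
  have hpb : IsPullback p₁ p₂ fr b := by
    refine IsPullback.of_right ?_ (pullback.lift_snd _ _ _) (IsPullback.of_hasPullback f ι)
    rw [pullback.lift_fst]
    exact IsPullback.of_hasPullback f q
  let E := (𝓘.comap fr).comap p₁
  have hE : E = (𝓘.comap b).comap p₂ := by
    show (𝓘.comap fr).comap p₁ = _
    rw [← Scheme.IdealSheafData.comap_comp, hpb.w, Scheme.IdealSheafData.comap_comp]
  have hlp : HTop.IsLocPrincipal E := fun x => by
    obtain ⟨W, e, hx, -, he⟩ := RZExt.IsTorsionIdeal.exists_small hb.1 p₂ x ⊤ trivial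
    exact ⟨W, hx, e, by rw [hE]; exact he⟩
  have hT := isTorsionIdeal_supportedOn hlp
  obtain ⟨hfl, hs, hlfp, hqc, hqs⟩ := hall _ p₁ p₂ hpb (HTop.supportedOn E) fun V a => (hT V a).trans Iff.rfl
  refine ⟨Y', q, _, (HTop.supportedOn E).subschemeι, ‹_›, ‹_›, ‹_›, inferInstance, fun ho => ?_, hfl, hs, hlfp,
    hqc, hqs⟩
  haveI : UniversallyOpen p₂ := MorphismProperty.pullback_snd _ _ ho
  refine ⟨fun x => ?_⟩
  have hcl : x ∈ closure (Set.range (HTop.supportedOn E).subschemeι) := by
    refine mem_closure_iff.2 fun O hO hxO => ?_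
    obtain ⟨y, ⟨z, hzO, hzy⟩, hy⟩ := dense_iff_inter_open.1 (RZExt.dense_awayFrom hb.1) _ (p₂.isOpenMap O hO)
      ⟨p₂ x, x, hxO, rfl⟩
    haveI := isIso_restrict_torsion hT
    obtain ⟨a, ha⟩ := surjective_base_of_isIso_restrict (HTop.supportedOn E).subschemeι (HTop.awayFrom E) (z := z) (by
      show z ∈ (E.support : Set _)ᶜ
      rw [hE, Scheme.IdealSheafData.support_comap, Closeds.coe_preimage]
      intro hmem
      rw [Set.mem_preimage, hzy] at hmem
      exact hy hmem)
    exact ⟨z, hzO, a, ha⟩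
  rwa [(HTop.supportedOn E).subschemeι.isClosedEmbedding.isClosed_range.closure_eq] at hcl

/-- Transport of a refinement along a base change. -/
theorem refinement_baseChange {X Y X₀ Y₀ : Scheme.{u}} {f : X ⟶ Y} {f₀ : X₀ ⟶ Y₀} {gX : X ⟶ X₀} {gY : Y ⟶ Y₀}
    (hsq : IsPullback gX f f₀ gY) {Y₀' X₀' : Scheme.{u}} (q₀ : Y₀' ⟶ Y₀) (r₀ : X₀' ⟶ pullback f₀ q₀)
    [IsProper q₀] [Surjective q₀] [LocallyOfFinitePresentation q₀] [IsClosedImmersion r₀]
    [Flat (r₀ ≫ pullback.snd f₀ q₀)] [Surjective (r₀ ≫ pullback.snd f₀ q₀)]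
    [LocallyOfFinitePresentation (r₀ ≫ pullback.snd f₀ q₀)] [QuasiCompact (r₀ ≫ pullback.snd f₀ q₀)]
    [QuasiSeparated (r₀ ≫ pullback.snd f₀ q₀)] :
    ∃ (Y' : Scheme.{u}) (q : Y' ⟶ Y) (X' : Scheme.{u}) (r : X' ⟶ pullback f q), IsProper q ∧ Surjective q ∧
      LocallyOfFinitePresentation q ∧ IsClosedImmersion r ∧ (Surjective r₀ → Surjective r) ∧
      Flat (r ≫ pullback.snd f q) ∧ Surjective (r ≫ pullback.snd f q) ∧
      LocallyOfFinitePresentation (r ≫ pullback.snd f q) ∧ QuasiCompact (r ≫ pullback.snd f q) ∧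
      QuasiSeparated (r ≫ pullback.snd f q) := by
  let q := pullback.snd q₀ gY
  let g' := pullback.fst q₀ gY
  have hq : IsPullback g' q q₀ gY := IsPullback.of_hasPullback q₀ gY
  let a := pullback.fst f q
  let c := pullback.snd f q
  have hwP : (a ≫ gX) ≫ f₀ = (c ≫ g') ≫ q₀ := by
    rw [Category.assoc, hsq.w, pullback.condition_assoc, Category.assoc, hq.w]
  let π := pullback.lift (a ≫ gX) (c ≫ g') hwP
  have hP : IsPullback π c (pullback.snd f₀ q₀) g' := by
    refine IsPullback.of_right ?_ (pullback.lift_snd _ _ _) (IsPullback.of_hasPullback f₀ q₀)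
    rw [pullback.lift_fst]
    have h1 : IsPullback (a ≫ gX) c f₀ (q ≫ gY) := (IsPullback.of_hasPullback f q).paste_horiz hsq
    rw [← hq.w] at h1
    exact h1
  let r := pullback.snd r₀ π
  have hr : IsPullback (pullback.fst r₀ π) r r₀ π := IsPullback.of_hasPullback r₀ π
  have hbig := hr.paste_vert hP
  refine ⟨_, q, _, r, MorphismProperty.pullback_snd _ _ ‹_›, MorphismProperty.pullback_snd _ _ ‹_›,
    MorphismProperty.pullback_snd _ _ ‹_›, MorphismProperty.pullback_snd _ _ ‹_›,
    fun h => MorphismProperty.pullback_snd _ _ h, ?_, ?_, ?_, ?_, ?_⟩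
  · exact MorphismProperty.of_isPullback (P := @Flat) hbig ‹_›
  · exact MorphismProperty.of_isPullback (P := @Surjective) hbig ‹_›
  · exact MorphismProperty.of_isPullback (P := @LocallyOfFinitePresentation) hbig ‹_›
  · exact MorphismProperty.of_isPullback (P := @QuasiCompact) hbig ‹_›
  · exact MorphismProperty.of_isPullback (P := @QuasiSeparated) hbig ‹_›

/-- The refinement over an affine or noetherian base. -/
theorem exists_refinement {X Y : Scheme.{u}} (f : X ⟶ Y) (hY : IsAffine Y ∨ IsNoetherian Y)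
    [LocallyOfFinitePresentation f] [QuasiCompact f] [QuasiSeparated f] (hf : Subtr.UnivSSubtrusive f) :
    ∃ (Y' : Scheme.{u}) (q : Y' ⟶ Y) (X' : Scheme.{u}) (r : X' ⟶ pullback f q), IsProper q ∧ Surjective q ∧
      LocallyOfFinitePresentation q ∧ IsClosedImmersion r ∧ (UniversallyOpen f → Surjective r) ∧
      Flat (r ≫ pullback.snd f q) ∧ Surjective (r ≫ pullback.snd f q) ∧
      LocallyOfFinitePresentation (r ≫ pullback.snd f q) ∧ QuasiCompact (r ≫ pullback.snd f q) ∧
      QuasiSeparated (r ≫ pullback.snd f q) := by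
  rcases hY with hY | hY
  swap
  · exact exists_refinement_of_noetherian f hf
  let A := Γ(Y, ⊤)
  let D := LimModel.fgDiagram A
  let c := LimModel.fgCone A
  let hc := LimModel.fgIsLimit A
  haveI : IsCofiltered (LimModel.FgSub A)ᵒᵖ := isCofiltered_op_of_isFiltered _
  haveI : ∀ {i j : (LimModel.FgSub A)ᵒᵖ} (f : i ⟶ j), IsAffineHom (D.map f) := fun f =>
    inferInstanceAs (IsAffineHom ((LimModel.fgDiagram A).map f))
  haveI : ∀ i : (LimModel.FgSub A)ᵒᵖ, IsAffine (D.obj i) := fun i => inferInstanceAs (IsAffine (Spec _))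
  haveI : ∀ i : (LimModel.FgSub A)ᵒᵖ, IsNoetherian (D.obj i) := fun i => by
    have := Algebra.FiniteType.isNoetherianRing ℤ i.unop.1 (h := i.unop.1.fg_iff_finiteType.mp i.unop.2)
    exact inferInstanceAs (IsNoetherian (Spec (CommRingCat.of i.unop.1)))
  let a : X ⟶ c.pt := f ≫ Y.isoSpec.hom
  haveI : LocallyOfFinitePresentation a := inferInstanceAs (LocallyOfFinitePresentation (f ≫ Y.isoSpec.hom))
  haveI : QuasiCompact a := inferInstanceAs (QuasiCompact (f ≫ Y.isoSpec.hom))
  haveI : QuasiSeparated a := inferInstanceAs (QuasiSeparated (f ≫ Y.isoSpec.hom))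
  have hsqa : IsPullback (𝟙 X) f a Y.isoSpec.hom := IsPullback.of_horiz_isIso ⟨by simp [a]⟩
  have ha : Subtr.UnivSSubtrusive a := MorphismProperty.of_isPullback
    (show IsPullback (𝟙 X) a f Y.isoSpec.inv from IsPullback.of_horiz_isIso ⟨by simp [a]⟩) hf
  have hao : UniversallyOpen f → UniversallyOpen a := fun ho => MorphismProperty.of_isPullback
    (show IsPullback (𝟙 X) a f Y.isoSpec.inv from IsPullback.of_horiz_isIso ⟨by simp [a]⟩) ho
  obtain ⟨i, Xi, fi, g, h1, h2, h3, h4⟩ := LimModel.exists_model D c hc a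
  haveI := h1
  haveI := h2
  haveI := h3
  obtain ⟨j₁, hj₁⟩ := Groth.Agent.S14785.exists_stage D c hc fi (𝟙 _) a (𝟙 _) _ g
    (LimMore.isPullback_id D c) h4 ha
  have hstage : ∀ j : Over i, ∃ gj : X ⟶ stage D fi j, IsPullback gj a (toStage D fi j) (c.π.app j.left) :=
    fun j => ⟨_, isPullback_proj D fi c h4 j⟩
  have key : ∀ j : Over i, Subtr.UnivSSubtrusive (stageMap D (𝟙 _) fi j) →
      (UniversallyOpen f → UniversallyOpen (stageMap D (𝟙 _) fi j)) →
      ∃ (Y' : Scheme.{u}) (q : Y' ⟶ Y) (X' : Scheme.{u}) (r : X' ⟶ pullback f q), IsProper q ∧ Surjective q ∧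
      LocallyOfFinitePresentation q ∧ IsClosedImmersion r ∧ (UniversallyOpen f → Surjective r) ∧
      Flat (r ≫ pullback.snd f q) ∧ Surjective (r ≫ pullback.snd f q) ∧
      LocallyOfFinitePresentation (r ≫ pullback.snd f q) ∧ QuasiCompact (r ≫ pullback.snd f q) ∧
      QuasiSeparated (r ≫ pullback.snd f q) := by
    intro j hj hjo
    have hs : Subtr.UnivSSubtrusive (toStage D fi j) := (LimMore.stageMap_id_iff D fi Subtr.UnivSSubtrusive j).1 hj
    haveI : LocallyOfFinitePresentation (toStage D fi j) :=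
      MorphismProperty.of_isPullback (P := @LocallyOfFinitePresentation) (isPullback_stage D fi j) h1
    haveI : QuasiCompact (toStage D fi j) :=
      MorphismProperty.of_isPullback (P := @QuasiCompact) (isPullback_stage D fi j) h2
    haveI : QuasiSeparated (toStage D fi j) :=
      MorphismProperty.of_isPullback (P := @QuasiSeparated) (isPullback_stage D fi j) h3
    obtain ⟨Y₀', q₀, X₀', r₀, e1, e2, e3, e4, e5, e6, e7, e8, e9, e10⟩ :=
      exists_refinement_of_noetherian (toStage D fi j) hs
    obtain ⟨gj, hgj⟩ := hstage j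
    obtain ⟨Y', q, X', r, d1, d2, d3, d4, d5, d6, d7, d8, d9, d10⟩ :=
      refinement_baseChange (hsqa.paste_horiz hgj) q₀ r₀
    exact ⟨Y', q, X', r, d1, d2, d3, d4,
      fun ho => d5 (e5 ((LimMore.stageMap_id_iff D fi @UniversallyOpen j).1 (hjo ho))), d6, d7, d8, d9, d10⟩
  by_cases ho : UniversallyOpen f
  · haveI := hao ho
    obtain ⟨j₂, hj₂⟩ := Groth.Agent.S14786.exists_stage D c hc fi (𝟙 _) a (𝟙 _) _ g
      (LimMore.isPullback_id D c) h4
    obtain ⟨l, e₁, e₂, -⟩ := IsCofilteredOrEmpty.cone_objs j₁ j₂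
    exact key l (MorphismProperty.of_isPullback (isPullback_trans_stageMap D (𝟙 _) fi e₁) hj₁)
      fun _ => MorphismProperty.of_isPullback (P := @UniversallyOpen) (isPullback_trans_stageMap D (𝟙 _) fi e₂) hj₂
  · exact key j₁ hj₁ fun h => absurd h ho

end Groth.Agent.FlatBlowUp

end
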