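import Groth.Agent.FlatBlowUp.Apps

/-!
# Admissible blow-ups of a flat pair are dominated by blow-ups of the base
-/

set_option autoImplicit false
set_option linter.style.haveILetI false
set_option backward.isDefEq.respectTransparency false
set_option backward.isDefEq.respectTransparency.types false

universe u

open CategoryTheory CategoryTheory.Limits AlgebraicGeometry TopologicalSpace

noncomputable section

namespace Groth.Agent.FlatBlowUp

open RZExt

theorem surjective_base_of_isIso_restrict {A B : Scheme.{u}} (q : A ⟶ B) (O : B.Opens) [IsIso (q ∣_ O)] {z : B}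
    (hz : z ∈ O) : ∃ a, q a = z := by
  obtain ⟨a, ha⟩ := (q ∣_ O).homeomorph.surjective ⟨z, hz⟩
  refine ⟨a.1, ?_⟩
  have h := congrArg (fun φ : (q ⁻¹ᵁ O).toScheme ⟶ B => φ a) (morphismRestrict_ι q O)
  simp only [Scheme.Hom.comp_apply] at h
  exact h.symm.trans (congrArg (fun w => (O.ι) w) ha)

theorem injective_base_of_isIso_restrict {A B : Scheme.{u}} (q : A ⟶ B) (O : B.Opens) [IsIso (q ∣_ O)] {a a' : A}
    (ha : q a ∈ O) (h : q a = q a') : a = a' := by
  have ha' : q a' ∈ O := h ▸ ha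
  have key : ∀ (c : A) (hc : q c ∈ O), (O.ι) ((q ∣_ O) ⟨c, hc⟩) = q c := fun c hc =>
    congrArg (fun φ : (q ⁻¹ᵁ O).toScheme ⟶ B => φ (⟨c, hc⟩ : (q ⁻¹ᵁ O).toScheme)) (morphismRestrict_ι q O)
  have h1 : (q ∣_ O) ⟨a, ha⟩ = (q ∣_ O) ⟨a', ha'⟩ :=
    O.ι.isOpenEmbedding.injective (((key a ha).trans h).trans (key a' ha').symm)
  exact congrArg (fun c : (q ⁻¹ᵁ O).toScheme => c.1) ((q ∣_ O).homeomorph.injective h1)

set_option maxHeartbeats 800000 in
theorem exists_adm_square {X Y Y' : Scheme.{u}} [CompactSpace X] [QuasiSeparatedSpace X] (IX : X.IdealSheafData)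
    (IY : Y.IdealSheafData) (IY' : Y'.IdealSheafData) (hX : BlowUp.IsEffCartierIdeal IX) (u : Y ⟶ X)
    (hu : ModPair.IsMinimal IY IX u) [Flat u] [LocallyOfFinitePresentation u] [QuasiCompact u] [QuasiSeparated u]
    (b : Y' ⟶ Y) (hb : ModPair.IsAdmBlowup IY' IY b) :
    ∃ (X' : Scheme.{u}) (IX' : X'.IdealSheafData) (a : X' ⟶ X) (V : Scheme.{u}) (IV : V.IdealSheafData)
      (v : V ⟶ X') (w : V ⟶ Y'), BlowUp.IsEffCartierIdeal IX' ∧ ModPair.IsAdmBlowup IX' IX a ∧
      BlowUp.IsEffCartierIdeal IV ∧ ModPair.IsMinimal IV IX' v ∧ Flat v ∧ LocallyOfFinitePresentation v ∧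
      QuasiCompact v ∧ QuasiSeparated v ∧ ModPair.IsAdmBlowup IV IY' w ∧ w ≫ b ≫ u = v ≫ a ∧
      (Surjective u → Surjective v) := by
  obtain ⟨hbmin, hbprop, hbiso⟩ := hb
  haveI := hbprop
  haveI : CompactSpace Y := QuasiCompact.compactSpace_of_compactSpace u
  haveI : QuasiSeparatedSpace Y := quasiSeparatedSpace_of_quasiSeparated u
  haveI : CompactSpace Y' := QuasiCompact.compactSpace_of_compactSpace b
  haveI : QuasiSeparatedSpace Y' := quasiSeparatedSpace_of_quasiSeparated b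
  have hYo : u ⁻¹ᵁ ModPair.interior IX = ModPair.interior IY := (ModPairFrac.preimage_interior hu).symm
  have hfmin : ModPair.IsMinimal IY' IX (b ≫ u) := by
    show IY' = IX.comap (b ≫ u)
    rw [Scheme.IdealSheafData.comap_comp, ← hu]
    exact hbmin
  haveI : IsIso (b ∣_ (u ⁻¹ᵁ ModPair.interior IX)) := hYo ▸ hbiso
  haveI : Flat ((b ≫ u) ∣_ ModPair.interior IX) := by rw [morphismRestrict_comp]; infer_instance
  haveI : LocallyOfFinitePresentation ((b ≫ u) ∣_ ModPair.interior IX) := by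
    rw [morphismRestrict_comp]; infer_instance
  obtain ⟨J, V, w, v, -, hcart, ⟨hamin, haprop, haiso⟩, hVc, hw, hcomm, h1, h2, h3, h4⟩ :=
    exists_flat_adm IX IY' hX (b ≫ u) hfmin (centreOfCartier IX hX)
  have hwmin : ModPair.IsMinimal (IY'.comap w) (IX.comap J.b) v := by
    show IY'.comap w = (IX.comap J.b).comap v
    rw [hfmin, ← Scheme.IdealSheafData.comap_comp, hcomm, Scheme.IdealSheafData.comap_comp]
  refine ⟨J.T, IX.comap J.b, J.b, V, IY'.comap w, v, w, hcart, ⟨hamin, haprop, haiso⟩, hVc, hwmin, h1, h2, h3, h4,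
    hw, hcomm, fun hsurj => ⟨fun t => ?_⟩⟩
  obtain ⟨-, hwprop, hwiso⟩ := hw
  haveI := hwprop
  haveI := hwiso
  haveI := haiso
  haveI := hsurj
  let Q := pullback u J.b
  let q₁ := pullback.fst u J.b
  let q₂ := pullback.snd u J.b
  let r : V ⟶ Q := pullback.lift (w ≫ b) v (by rw [Category.assoc]; exact hcomm)
  haveI : IsProper (r ≫ q₁) := by rw [show r ≫ q₁ = w ≫ b from pullback.lift_fst _ _ _]; infer_instance
  haveI : IsProper r := MorphismProperty.of_postcomp (W := @IsProper) (W' := @IsSeparated) r q₁ inferInstance ‹_›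
  have hclosed : IsClosed (Set.range r) := r.isClosedMap.isClosed_range
  have hQc : BlowUp.IsEffCartierIdeal ((IX.comap J.b).comap q₂) := BlowUpLib.cartier_comap_flat hcart q₂
  have hdense := dense_awayFrom hQc
  have hsub : (((IX.comap J.b).comap q₂).support : Set Q)ᶜ ⊆ Set.range r := by
    intro q hq
    have hqX : J.b (q₂ q) ∈ ModPair.interior IX := by
      have e : HTop.awayFrom ((IX.comap J.b).comap q₂) = q₂ ⁻¹ᵁ (J.b ⁻¹ᵁ ModPair.interior IX) := by
        rw [AlmostBlow.awayFrom_comap, AlmostBlow.awayFrom_comap]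
        rfl
      exact e.le hq
    have hqY : q₁ q ∈ u ⁻¹ᵁ ModPair.interior IX := by
      show u (q₁ q) ∈ ModPair.interior IX
      rw [← Scheme.Hom.comp_apply, pullback.condition, Scheme.Hom.comp_apply]
      exact hqX
    obtain ⟨y', hy'⟩ := surjective_base_of_isIso_restrict b (u ⁻¹ᵁ ModPair.interior IX) hqY
    have hy'o : y' ∈ ModPair.interior IY' := by
      rw [ModPairFrac.preimage_interior hfmin, Scheme.Hom.comp_preimage]
      show b y' ∈ u ⁻¹ᵁ ModPair.interior IX
      rw [hy']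
      exact hqY
    obtain ⟨z, hz⟩ := surjective_base_of_isIso_restrict w (ModPair.interior IY') hy'o
    refine ⟨z, ?_⟩
    haveI : IsIso (q₁ ∣_ (u ⁻¹ᵁ ModPair.interior IX)) :=
      ModPairLim.isIso_restrict_of_isPullback (IsPullback.of_hasPullback u J.b).flip (ModPair.interior IX)
    refine injective_base_of_isIso_restrict q₁ (u ⁻¹ᵁ ModPair.interior IX) ?_ ?_
    · rw [← Scheme.Hom.comp_apply, show r ≫ q₁ = w ≫ b from pullback.lift_fst _ _ _, Scheme.Hom.comp_apply, hz, hy']
      exact hqY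
    · rw [← Scheme.Hom.comp_apply, show r ≫ q₁ = w ≫ b from pullback.lift_fst _ _ _, Scheme.Hom.comp_apply, hz, hy']
  have hall : Set.range r = Set.univ := Set.eq_univ_of_univ_subset
    (hdense.closure_eq ▸ (closure_minimal hsub hclosed))
  obtain ⟨q, hq⟩ := q₂.surjective t
  obtain ⟨z, rfl⟩ := (Set.eq_univ_iff_forall.1 hall) q
  exact ⟨z, by rw [← hq, ← Scheme.Hom.comp_apply, show r ≫ q₂ = v from pullback.lift_snd _ _ _]⟩

end Groth.Agent.FlatBlowUp
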