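import Groth.Agent.FlatBlowUp.Apps
import Groth.Agent.AlmostBlowExist.Basic
import Groth.Agent.HTopV.AlmostSub
import Groth.Agent.LimClosed.FTIdeals
import Groth.Agent.AbsApprox.PairLim
import Groth.Agent.FlatSpread.LimScheme
import Mathlib

/-!
# Flattening by almost blow-ups
-/

set_option autoImplicit false
set_option linter.style.haveILetI false
set_option backward.isDefEq.respectTransparency false
set_option backward.isDefEq.respectTransparency.types false

universe u

open CategoryTheory CategoryTheory.Limits AlgebraicGeometry TopologicalSpace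

noncomputable section

namespace Groth.Agent.FlatBlowUp

/-- Finite type ideals on a closed subscheme of a qcqs scheme come from finite type ideals of the ambient scheme. -/
theorem exists_ft_comap_eq {P Q : Scheme.{u}} [CompactSpace P] [QuasiSeparatedSpace P] (q : Q ⟶ P)
    [IsClosedImmersion q] (J : Q.IdealSheafData) (hJ : ∀ U, (J.ideal U).FG) :
    ∃ M : P.IdealSheafData, (∀ U, (M.ideal U).FG) ∧ M.comap q = J := by
  classical
  haveI : IsDirectedOrder (LimClosed.FTBelow (J.map q)) :=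
    inferInstanceAs (IsDirected (LimClosed.FTBelow (J.map q)) fun a b => a ≤ b)
  choose U hU hxU hUle using fun x : P => exists_isAffineOpen_mem_and_subset (X := P) (x := x) (U := ⊤) trivial
  obtain ⟨s, hs⟩ := (isCompact_univ (X := P)).elim_finite_subcover (fun x => (U x : Set P)) (fun x => (U x).2)
    fun x _ => Set.mem_iUnion.2 ⟨x, hxU x⟩
  have hone : ∀ x : P, ∃ M : LimClosed.FTBelow (J.map q),
      J.ideal ⟨q ⁻¹ᵁ U x, (hU x).preimage q⟩ ≤ (M.1.ideal ⟨U x, hU x⟩).map (q.app (U x)).hom := by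
    intro x
    obtain ⟨g, hg⟩ := hJ ⟨q ⁻¹ᵁ U x, (hU x).preimage q⟩
    have hlift : ∀ c ∈ g, ∃ M : LimClosed.FTBelow (J.map q),
        c ∈ (M.1.ideal ⟨U x, hU x⟩).map (q.app (U x)).hom := by
      intro c hc
      obtain ⟨a, rfl⟩ := q.app_surjective (U x) (hU x) c
      have ha : a ∈ (J.map q).ideal ⟨U x, hU x⟩ := by
        rw [Scheme.IdealSheafData.ideal_map_of_isAffineHom, Ideal.mem_comap, ← hg]
        exact Submodule.subset_span hc
      obtain ⟨L, hL, hfg, haL⟩ := LimClosed.exists_ft_le (J.map q) ⟨U x, hU x⟩ a ha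
      exact ⟨⟨L, hL, hfg⟩, Ideal.mem_map_of_mem _ haL⟩
    choose! M hM using hlift
    obtain ⟨N, hN⟩ := Finset.exists_le (g.image M)
    refine ⟨N, ?_⟩
    rw [← hg]
    exact Submodule.span_le.2 fun c hc =>
      Ideal.map_mono ((hN _ (Finset.mem_image_of_mem M hc)) ⟨U x, hU x⟩) (hM c hc)
  choose M hM using hone
  obtain ⟨N, hN⟩ := Finset.exists_le (s.image M)
  refine ⟨N.1, N.2.2, le_antisymm (Scheme.IdealSheafData.le_map_iff_comap_le.1 N.2.1) ?_⟩
  refine Scheme.IdealSheafData.le_of_iSup_eq_top (fun x : s => ⟨q ⁻¹ᵁ U x, (hU x).preimage q⟩) ?_ fun x => ?_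
  · refine top_le_iff.1 fun t _ => ?_
    obtain ⟨x, hx, htx⟩ := Set.mem_iUnion₂.1 (hs (Set.mem_univ (q t)))
    exact Opens.mem_iSup.2 ⟨⟨x, hx⟩, htx⟩
  · have hle : q ⁻¹ᵁ U x.1 ≤ q ⁻¹ᵁ U x.1 := le_rfl
    refine (hM x.1).trans ?_
    rw [FpqcDescent.ideal_comap_appLE N.1 q ⟨U x.1, hU x.1⟩ ⟨_, (hU x.1).preimage q⟩ hle,
      ← Scheme.Hom.app_eq_appLE]
    exact Ideal.map_mono ((hN _ (Finset.mem_image_of_mem M x.2)) _)

/-- A closed subscheme of a base change of an almost blow-up square containing the strict transform gives an almost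
blow-up square. -/
theorem almostBlow_closed {E Z Y' Y X P W T : Scheme.{u}} {e : E ⟶ Y'} {π : E ⟶ Z} {b : Y' ⟶ Y} {i : Z ⟶ Y}
    (h : HTop.IsAlmostBlowUpSquare e π b i) {f : X ⟶ Y} {p₁ : P ⟶ X} {p₂ : P ⟶ Y'} (hP : IsPullback p₁ p₂ f b)
    (k : W ⟶ P) [IsClosedImmersion k] [LocallyOfFinitePresentation k]
    (hk : k.ker ≤ HTop.supportedOn ((i.ker.comap b).comap p₂)) {iT : T ⟶ X} {fZ : T ⟶ Z}
    (hT : IsPullback fZ iT i f) :
    ∃ (D : Scheme.{u}) (eD : D ⟶ W) (πD : D ⟶ T) (fE : D ⟶ E),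
      HTop.IsAlmostBlowUpSquare eD πD (k ≫ p₁) iT ∧ IsPullback fE eD e (k ≫ p₂) ∧ πD ≫ fZ = fE ≫ π := by
  haveI := h.isClosedImmersion
  have hE := IsPullback.of_hasPullback e p₂
  have hw : (pullback.fst e p₂ ≫ π) ≫ i = (pullback.snd e p₂ ≫ p₁) ≫ f := by
    rw [Category.assoc, Category.assoc, ← h.isPullback.w, hP.w, pullback.condition_assoc]
  have hsq := AlmostBlow.main h f hP.flip hT hE (π₁ := hT.lift _ _ hw) (hT.lift_snd _ _ hw)
  have hker : (iT.ker.comap p₁) = (i.ker.comap b).comap p₂ := by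
    rw [AlmostBlow.ker_of_isPullback hT, ← Scheme.IdealSheafData.comap_comp, ← Scheme.IdealSheafData.comap_comp,
      hP.w]
  have hW := IsPullback.of_hasPullback (pullback.snd e p₂) k
  refine ⟨_, _, _, pullback.fst (pullback.snd e p₂) k ≫ pullback.fst e p₂,
    (HTopV.ker_le_iff_isAlmostBlowUpSquare hsq k hW).1 (hker ▸ hk), hW.paste_horiz hE, ?_⟩
  rw [Category.assoc, hT.lift_fst, Category.assoc]

set_option maxHeartbeats 1600000 in
/-- **Flattening by almost blow-ups.** -/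
theorem exists_almost_flattening {X Y : Scheme.{u}} [CompactSpace Y] [QuasiSeparatedSpace Y] (f : X ⟶ Y)
    [LocallyOfFinitePresentation f] [QuasiCompact f] [QuasiSeparated f] (V : Y.Opens) (hV : IsCompact (V : Set Y))
    [Flat (f ∣_ V)] :
    ∃ (Z Y' E T X' D : Scheme.{u}) (iZ : Z ⟶ Y) (bY : Y' ⟶ Y) (eE : E ⟶ Y') (πE : E ⟶ Z) (iT : T ⟶ X)
      (bX : X' ⟶ X) (eD : D ⟶ X') (πD : D ⟶ T) (fZ : T ⟶ Z) (f' : X' ⟶ Y') (fE : D ⟶ E),
      HTop.IsAlmostBlowUpSquare eE πE bY iZ ∧ HTop.IsAlmostBlowUpSquare eD πD bX iT ∧ IsPullback fZ iT iZ f ∧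
      IsPullback fE eD eE f' ∧ f' ≫ bY = bX ≫ f ∧ πD ≫ fZ = fE ≫ πE ∧ iZ ⁻¹ᵁ V = ⊥ ∧ Flat f' ∧
      LocallyOfFinitePresentation f' := by
  haveI : CompactSpace X := QuasiCompact.compactSpace_of_compactSpace f
  haveI : QuasiSeparatedSpace X := quasiSeparatedSpace_of_quasiSeparated f
  obtain ⟨J, hJ⟩ := exists_flattening_centre f V hV
  -- the centre
  let iZ := J.ideal.subschemeι
  haveI : LocallyOfFinitePresentation iZ := GrpdFit.lfp_subschemeι J.ideal fun x => by
    obtain ⟨U, hU, hxU, -⟩ := exists_isAffineOpen_mem_and_subset (x := x) (U := (⊤ : Y.Opens)) trivial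
    exact ⟨⟨U, hU⟩, hxU, J.ft _⟩
  have hZV : iZ ⁻¹ᵁ V = ⊥ := le_bot_iff.1 fun t ht => by
    have h1 : iZ t ∈ Set.range iZ := ⟨t, rfl⟩
    rw [show Set.range iZ = _ from J.ideal.range_subschemeι, J.supp] at h1
    exact h1 ht
  -- an almost blow-up square
  obtain ⟨Z₀, X₀, i₀, g, gZ, h0, h1, h2, hsq0⟩ := AlmostBlowExist.exists_noetherian_model iZ
  haveI := h0
  haveI := h1
  haveI := h2
  obtain ⟨E₀, X₀', e₀, π₀, b₀, hm0⟩ := AlmostBlowExist.exists_square_of_noetherian i₀
  obtain ⟨E'', Y'', e, π, b, h⟩ : ∃ (E'' Y'' : Scheme.{u}) (e : E'' ⟶ Y'') (π : E'' ⟶ J.ideal.subscheme)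
      (b : Y'' ⟶ Y), HTop.IsAlmostBlowUpSquare e π b iZ := by
    have hw : (pullback.fst e₀ (pullback.fst b₀ g) ≫ π₀) ≫ i₀ =
        (pullback.snd e₀ (pullback.fst b₀ g) ≫ pullback.snd b₀ g) ≫ g := by
      rw [Category.assoc, Category.assoc, ← hm0.isPullback.w, pullback.condition_assoc, pullback.condition]
    exact ⟨_, _, _, hsq0.lift _ _ hw, _, AlmostBlow.main hm0 g (IsPullback.of_hasPullback b₀ g) hsq0
      (IsPullback.of_hasPullback e₀ (pullback.fst b₀ g)) (hsq0.lift_snd _ _ hw)⟩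
  haveI := h.isProper
  haveI := h.finitePresentation
  haveI : CompactSpace Y'' := QuasiCompact.compactSpace_of_compactSpace b
  haveI : QuasiSeparatedSpace Y'' := quasiSeparatedSpace_of_quasiSeparated b
  have hkerZ : iZ.ker = J.ideal := Scheme.IdealSheafData.ker_subschemeι _
  let K := HTop.supportedOn (iZ.ker.comap b)
  let ιS := K.subschemeι
  have hbl : BlowUp.IsBlowUp (ιS ≫ b) J.ideal := hkerZ ▸ h.isBlowUp
  -- compare with the chosen blow-up
  obtain ⟨eS, heS, -⟩ := J.isBlowUp.2 _ (ιS ≫ b) hbl.1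
  obtain ⟨mS, hmS, -⟩ := hbl.2 _ J.b J.isBlowUp.1
  have hem : eS ≫ mS = 𝟙 _ := (hbl.2 _ (ιS ≫ b) hbl.1).unique
    (show (eS ≫ mS) ≫ ιS ≫ b = ιS ≫ b by rw [Category.assoc, hmS, heS]) (Category.id_comp _)
  have hme : mS ≫ eS = 𝟙 _ := (J.isBlowUp.2 _ J.b J.isBlowUp.1).unique
    (show (mS ≫ eS) ≫ J.b = J.b by rw [Category.assoc, heS, hmS]) (Category.id_comp _)
  haveI : IsIso eS := ⟨mS, hem, hme⟩
  -- the base changes
  let P := pullback f b
  let p₁ := pullback.fst f b
  let p₂ := pullback.snd f b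
  have hP : IsPullback p₁ p₂ f b := IsPullback.of_hasPullback f b
  haveI : QuasiCompact p₂ := MorphismProperty.of_isPullback hP ‹QuasiCompact f›
  haveI : QuasiSeparated p₂ := MorphismProperty.of_isPullback hP ‹QuasiSeparated f›
  haveI : LocallyOfFinitePresentation p₂ := MorphismProperty.of_isPullback hP ‹LocallyOfFinitePresentation f›
  haveI : CompactSpace P := QuasiCompact.compactSpace_of_compactSpace p₂
  haveI : QuasiSeparatedSpace P := quasiSeparatedSpace_of_quasiSeparated p₂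
  let q := pullback.fst p₂ ιS
  let r := pullback.snd p₂ ιS
  have hq : IsPullback q r p₂ ιS := IsPullback.of_hasPullback p₂ ιS
  haveI : IsClosedImmersion q := MorphismProperty.of_isPullback hq.flip inferInstance
  have hJb : IsPullback (q ≫ p₁) (r ≫ eS) f J.b :=
    IsPullback.of_iso (hq.paste_horiz hP) (Iso.refl _) (Iso.refl _) (asIso eS) (Iso.refl _)
      (by simp) (by simp) (by simp) (by simpa using heS.symm)
  let Ex := (J.ideal.comap f).comap (q ≫ p₁)
  have hEx : Ex = ((iZ.ker.comap b).comap p₂).comap q := by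
    show (J.ideal.comap f).comap (q ≫ p₁) = _
    rw [hkerZ, ← Scheme.IdealSheafData.comap_comp, ← Scheme.IdealSheafData.comap_comp,
      ← Scheme.IdealSheafData.comap_comp, Category.assoc, Category.assoc, hP.w]
  have hlpP : HTop.IsLocPrincipal ((iZ.ker.comap b).comap p₂) := AlmostBlow.isLocPrincipal_comap h.locPrincipal p₂
  have hlpQ : HTop.IsLocPrincipal Ex := hEx ▸ AlmostBlow.isLocPrincipal_comap hlpP q
  let 𝒥 := HTop.supportedOn Ex
  obtain ⟨hfl, hlfp⟩ := hJ J le_rfl _ _ _ hJb 𝒥 (isTorsionIdeal_supportedOn hlpQ)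
  haveI := hfl
  haveI := hlfp
  let ι := 𝒥.subschemeι
  have hιr : ι ≫ r = (ι ≫ r ≫ eS) ≫ mS := by rw [Category.assoc, Category.assoc, hem, Category.comp_id]
  haveI : IsIso mS := ⟨eS, hme, hem⟩
  haveI : Flat (ι ≫ r) := hιr ▸ inferInstance
  haveI : LocallyOfFinitePresentation (ι ≫ r) := hιr ▸ inferInstance
  haveI : LocallyOfFiniteType r := MorphismProperty.of_isPullback hq inferInstance
  haveI : LocallyOfFinitePresentation ι := LimDesc.lfp_of_comp ι r
  have hfg : ∀ U, (𝒥.ideal U).FG := fun U => by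
    have := AbsApprox.fg_ker_ideal_of_lfp ι U
    rwa [Scheme.IdealSheafData.ker_subschemeι] at this
  obtain ⟨M, hMfg, hM⟩ := exists_ft_comap_eq q 𝒥 hfg
  let Mι := M.subschemeι
  haveI : LocallyOfFinitePresentation Mι := GrpdFit.lfp_subschemeι M fun x => by
    obtain ⟨U, hU, hxU, -⟩ := exists_isAffineOpen_mem_and_subset (x := x) (U := (⊤ : P.Opens)) trivial
    exact ⟨⟨U, hU⟩, hxU, hMfg _⟩
  let a := IsClosedImmersion.lift Mι (ι ≫ q) (by
    rw [Scheme.IdealSheafData.ker_subschemeι]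
    exact Scheme.IdealSheafData.le_map_iff_comap_le.2 hM.le)
  have ha : a ≫ Mι = ι ≫ q := IsClosedImmersion.lift_fac _ _ _
  have htop : IsPullback a ι Mι q := (isPullback_of_isClosedImmersion ι Mι a q ha.symm (by
    rw [Scheme.IdealSheafData.ker_subschemeι, Scheme.IdealSheafData.ker_subschemeι, hM])).flip
  have hlimsq : IsPullback a (ι ≫ r) (Mι ≫ p₂) ιS := htop.paste_vert hq
  -- descend flatness to a closed subscheme of finite presentation
  haveI : IsDirectedOrder (LimClosed.FTBelow K) := inferInstanceAs (IsDirected (LimClosed.FTBelow K) fun a b => a ≤ b)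
  let I₀ := (LimClosed.FTBelow K)ᵒᵖ
  haveI : IsFiltered (LimClosed.FTBelow K) := inferInstance
  haveI : IsCofiltered I₀ := inferInstance
  haveI : IsConnected I₀ := IsCofiltered.isConnected I₀
  have hιS : ιS.ker = K := Scheme.IdealSheafData.ker_subschemeι _
  let G := LimClosed.diagram K
  let Dg := G ⋙ Over.forget Y''
  let c := (Over.forget Y'').mapCone (LimClosed.cone K ιS hιS)
  have hlim : IsLimit c := isLimitOfPreserves _ (LimClosed.isLimitCone K ιS hιS)
  haveI : ∀ {x y : I₀} (φ : x ⟶ y), IsClosedImmersion (Dg.map φ) := fun φ => LimClosed.isClosedImmersion_map K φ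
  haveI : ∀ {x y : I₀} (φ : x ⟶ y), IsAffineHom (Dg.map φ) := fun φ => inferInstance
  obtain ⟨o⟩ : Nonempty I₀ := inferInstance
  haveI : IsClosedImmersion (G.obj o).hom := LimClosed.isClosedImmersion_diagram K o
  haveI := LimClosed.lfp_diagram K o
  let hN := Mι ≫ p₂
  let go : Dg.obj o ⟶ Y'' := (G.obj o).hom
  haveI : IsClosedImmersion go := ‹IsClosedImmersion (G.obj o).hom›
  haveI : LocallyOfFinitePresentation go := ‹LocallyOfFinitePresentation (G.obj o).hom›
  haveI : CompactSpace M.subscheme := QuasiCompact.compactSpace_of_compactSpace Mι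
  let f₀ : pullback hN go ⟶ Dg.obj o := pullback.snd hN go
  haveI : CompactSpace (pullback hN go : Scheme.{u}) :=
    QuasiCompact.compactSpace_of_compactSpace (pullback.fst hN go)
  haveI : LocallyOfFinitePresentation f₀ :=
    MorphismProperty.pullback_snd _ _ (inferInstanceAs (LocallyOfFinitePresentation (Mι ≫ p₂)))
  have hπo : c.π.app o ≫ go = ιS := Over.w ((LimClosed.cone K ιS hιS).π.app o)
  have hwx : a ≫ hN = ((ι ≫ r) ≫ c.π.app o) ≫ go := by
    rw [Category.assoc, hπo]; exact hlimsq.w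
  have hX : IsPullback (pullback.lift a ((ι ≫ r) ≫ c.π.app o) hwx) (ι ≫ r) f₀ (c.π.app o) := by
    refine IsPullback.of_right ?_ (pullback.lift_snd _ _ _) (IsPullback.of_hasPullback hN go)
    rw [pullback.lift_fst, hπo]
    exact hlimsq
  have hY : IsPullback (c.π.app o) (𝟙 c.pt) (𝟙 (Dg.obj o)) (c.π.app o) := IsPullback.id_vert (c.π.app o)
  obtain ⟨j, hj⟩ := FlatSpread.exists_flat Dg c hlim f₀ (𝟙 (Dg.obj o)) hY hX
  let L := j.left
  let gL : Dg.obj L ⟶ Y'' := (G.obj L).hom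
  haveI : IsClosedImmersion gL := LimClosed.isClosedImmersion_diagram K L
  haveI : LocallyOfFinitePresentation gL := LimClosed.lfp_diagram K L
  let tY := LimDesc.toStage Dg (𝟙 (Dg.obj o)) j
  haveI : IsIso tY := (LimDesc.isPullback_stage Dg (𝟙 (Dg.obj o)) j).isIso_snd_of_isIso
  let sM := LimDesc.stageMap Dg (𝟙 (Dg.obj o)) f₀ j
  let qW := LimDesc.toBase Dg (f₀ ≫ 𝟙 (Dg.obj o)) j ≫ pullback.fst hN go
  let f' := sM ≫ tY
  have hWsq : IsPullback qW f' hN gL := by
    have h1 := (LimDesc.isPullback_stageMap Dg (𝟙 (Dg.obj o)) f₀ j).paste_horiz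
      (IsPullback.of_hasPullback hN go)
    refine IsPullback.of_iso h1 (Iso.refl _) (Iso.refl _) (asIso tY) (Iso.refl _) (by simp [qW]) (by simp [f', sM])
      (by simp) ?_
    have h2 : LimDesc.toBase Dg (𝟙 (Dg.obj o)) j = tY ≫ Dg.map j.hom := by
      have := (LimDesc.isPullback_stage Dg (𝟙 (Dg.obj o)) j).w
      rwa [Category.comp_id] at this
    simp only [Iso.refl_hom, Category.comp_id, asIso_hom]
    rw [h2, Category.assoc]
    exact congrArg (tY ≫ ·) (Over.w (G.map j.hom))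
  haveI : Flat sM := hj
  haveI : Flat f' := inferInstanceAs (Flat (sM ≫ tY))
  haveI : LocallyOfFinitePresentation f' :=
    MorphismProperty.of_isPullback hWsq (inferInstanceAs (LocallyOfFinitePresentation (Mι ≫ p₂)))
  haveI : IsClosedImmersion qW := MorphismProperty.of_isPullback hWsq.flip inferInstance
  haveI : LocallyOfFinitePresentation qW := MorphismProperty.of_isPullback hWsq.flip inferInstance
  let k := qW ≫ Mι
  have hkp : k ≫ p₂ = f' ≫ gL := by rw [Category.assoc]; exact hWsq.w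
  -- the strict transform lies in it
  have hk : k.ker ≤ HTop.supportedOn ((iZ.ker.comap b).comap p₂) := by
    let ιP := (HTop.supportedOn ((iZ.ker.comap b).comap p₂)).subschemeι
    have hc : BlowUp.IsEffCartierIdeal (((iZ.ker.comap b).comap p₂).comap ιP) :=
      AlmostBlow.cartier_comap_subschemeι hlpP
    obtain ⟨s, hs⟩ := AlmostBlow.exists_lift (𝓘 := iZ.ker.comap b) (ιP ≫ p₂) (by
      rw [Scheme.IdealSheafData.comap_comp]; exact hc)
    let t := hq.lift ιP s hs.symm
    obtain ⟨l, hl⟩ := AlmostBlow.exists_lift (𝓘 := Ex) t (by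
      rw [hEx, ← Scheme.IdealSheafData.comap_comp _ t q, hq.lift_fst]; exact hc)
    let πL : K.subscheme ⟶ Dg.obj L := c.π.app L
    have hπL : πL ≫ gL = ιS := Over.w ((LimClosed.cone K ιS hιS).π.app L)
    have hwu : (l ≫ a) ≫ hN = (s ≫ πL) ≫ gL := by
      rw [Category.assoc l, hlimsq.w, Category.assoc s, hπL, Category.assoc ι, reassoc_of% hl, hq.lift_snd_assoc]
    have hfac : hWsq.lift (l ≫ a) (s ≫ πL) hwu ≫ k = ιP := by
      rw [hWsq.lift_fst_assoc, Category.assoc, ha, reassoc_of% hl, hq.lift_fst]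
    calc k.ker ≤ (hWsq.lift (l ≫ a) (s ≫ πL) hwu ≫ k).ker := Scheme.Hom.le_ker_comp _ _
      _ = ιP.ker := by rw [hfac]
      _ = _ := Scheme.IdealSheafData.ker_subschemeι _
  -- the squares
  let iT := pullback.snd iZ f
  have hT : IsPullback (pullback.fst iZ f) iT iZ f := IsPullback.of_hasPullback iZ f
  obtain ⟨D, eD, πD, fE0, hD, hDsq, hDπ⟩ := almostBlow_closed h hP k hk hT
  have hkerL : gL.ker ≤ HTop.supportedOn (iZ.ker.comap b) := by
    rw [show gL.ker = L.unop.1 from Scheme.IdealSheafData.ker_subschemeι _]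
    exact L.unop.2.1
  have hEsq := IsPullback.of_hasPullback e gL
  have hYsq := (HTopV.ker_le_iff_isAlmostBlowUpSquare h gL hEsq).1 hkerL
  have hwE : fE0 ≫ e = (eD ≫ f') ≫ gL := by rw [Category.assoc, ← hkp]; exact hDsq.w
  refine ⟨_, _, _, _, _, D, iZ, _, _, _, iT, k ≫ p₁, eD, πD, pullback.fst iZ f, f', hEsq.lift fE0 (eD ≫ f') hwE,
    hYsq, hD, hT, ?_, ?_, ?_, hZV, inferInstance, inferInstance⟩
  · refine IsPullback.of_right ?_ (hEsq.lift_snd _ _ _) hEsq
    rw [hEsq.lift_fst, ← hkp]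
    exact hDsq
  · refine (Category.assoc f' gL b).symm.trans ((congrArg (· ≫ b) hkp.symm).trans ?_)
    exact ((Category.assoc k p₂ b).trans (congrArg (k ≫ ·) hP.w.symm)).trans (Category.assoc k p₁ f).symm
  · rw [hDπ, hEsq.lift_fst_assoc]

end Groth.Agent.FlatBlowUp

end
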