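import Groth.Agent.FlatBlowUp.Closed
import Groth.Agent.ModPairFrac.Basic
import Groth.Agent.ModPairLim.InteriorCover
import Groth.Agent.ModPairLim.Blowup
import Groth.Agent.RZExt.Consequences

/-!
# The torsion subscheme exists; strict transforms and modulus pairs
-/

set_option autoImplicit false
set_option linter.style.haveILetI false
set_option backward.isDefEq.respectTransparency false
set_option backward.isDefEq.respectTransparency.types false

universe u

open CategoryTheory CategoryTheory.Limits AlgebraicGeometry TopologicalSpace Groth.Agent.QC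

noncomputable section

namespace Groth.Agent.FlatBlowUp

open RZExt

variable {P : Scheme.{u}} {E : P.IdealSheafData}

theorem map_pow_ideal (n : ℕ) {U V : P.affineOpens} (h : V.1 ≤ U.1) {c : Γ(P, U.1)} (hc : c ∈ (E ^ n).ideal U) :
    resO P h c ∈ (E ^ n).ideal V :=
  AlmostBlow.res_mem_ideal (E ^ n) (show V ≤ U from h) hc

/-- For a locally principal ideal the sections supported on it are the torsion sections. -/
theorem isTorsionIdeal_supportedOn (hE : HTop.IsLocPrincipal E) : IsTorsionIdeal E (HTop.supportedOn E) := by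
  classical
  haveI := AlmostBlow.quasiCompact_awayFrom_ι hE
  -- small charts
  have hsmall : ∀ (O : P.Opens) (x : P), x ∈ O → ∃ (W : P.affineOpens) (e : Γ(P, W.1)),
      x ∈ W.1 ∧ W.1 ≤ O ∧ E.ideal W = Ideal.span {e} := by
    intro O x hx
    obtain ⟨U, hxU, e, he⟩ := hE x
    obtain ⟨g, hg, hxg⟩ := U.2.exists_basicOpen_le ⟨x, hx⟩ hxU
    refine ⟨P.affineBasicOpen g, resO P (P.basicOpen_le g) e, hxg, hg, ?_⟩
    rw [← E.map_ideal_basicOpen U g, he, Ideal.map_span, Set.image_singleton]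
    rfl
  -- a section is supported on `E` when it vanishes on the complement
  have hmem : ∀ (W : P.affineOpens) (a : Γ(P, W.1)),
      a ∈ (HTop.supportedOn E).ideal W ↔ resO P (inf_le_left : W.1 ⊓ HTop.awayFrom E ≤ W.1) a = 0 := by
    intro W a
    rw [HTop.supportedOn, Scheme.Hom.ker_apply, RingHom.mem_ker, Scheme.Opens.ι_app]
    have e1 : (HTop.awayFrom E).ι ''ᵁ ((HTop.awayFrom E).ι ⁻¹ᵁ W.1) = W.1 ⊓ HTop.awayFrom E := by
      rw [Scheme.Hom.image_preimage_eq_opensRange_inf, Scheme.Opens.opensRange_ι, inf_comm]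
    have key : ∀ (O : P.Opens) (hO : O ≤ W.1), O = W.1 ⊓ HTop.awayFrom E →
        ((P.presheaf.map (homOfLE hO).op).hom a = 0 ↔ resO P (inf_le_left : W.1 ⊓ HTop.awayFrom E ≤ W.1) a = 0) := by
      rintro _ _ rfl
      exact Iff.rfl
    exact key _ _ e1
  intro W a
  rw [hmem]
  constructor
  · intro ha
    have hloc : ∀ x : W.1, ∃ (V : P.affineOpens) (n : ℕ), x.1 ∈ V.1 ∧ ∃ h : V.1 ≤ W.1,
        ∀ c ∈ (E ^ n).ideal V, c * resO P h a = 0 := fun x => by
      obtain ⟨V, e, hxV, hVW, he⟩ := hsmall W.1 x.1 x.2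
      have hb := AlmostBlow.awayFrom_inf_eq_basicOpen he
      have h0 : resO P (P.basicOpen_le e) (resO P hVW a) = 0 := by
        have hle : P.basicOpen e ≤ W.1 ⊓ HTop.awayFrom E :=
          le_inf ((P.basicOpen_le e).trans hVW) (hb.ge.trans inf_le_left)
        rw [resO_resO, ← resO_resO hle inf_le_left, ha, map_zero]
      haveI := V.2.isLocalization_basicOpen e
      obtain ⟨⟨_, n, rfl⟩, hn⟩ := (IsLocalization.map_eq_zero_iff (Submonoid.powers e) Γ(P, P.basicOpen e) _).1 h0
      refine ⟨V, n, hxV, hVW, fun c hc => ?_⟩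
      rw [Scheme.IdealSheafData.ideal_pow, Pi.pow_apply, he, Ideal.span_singleton_pow,
        Ideal.mem_span_singleton'] at hc
      obtain ⟨d, rfl⟩ := hc
      rw [mul_assoc, hn, mul_zero]
    choose V n hxV hVW hn using hloc
    obtain ⟨s, hs⟩ := W.2.isCompact.elim_finite_subcover (fun x => ((V x).1 : Set P)) (fun x => (V x).1.2)
      (fun x hx => Set.mem_iUnion.2 ⟨⟨x, hx⟩, hxV _⟩)
    refine ⟨s.sup n, fun c hc => ?_⟩
    refine TopCat.Presheaf.section_ext P.sheaf W.1 _ _ fun x hx => ?_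
    obtain ⟨i, hi, hxi⟩ := Set.mem_iUnion₂.1 (hs hx)
    have h1 := map_pow_ideal (E := E) _ (hVW i) hc
    rw [Scheme.IdealSheafData.ideal_pow, Pi.pow_apply] at h1
    have h2 : resO P (hVW i) (c * a) = 0 := by
      rw [map_mul]
      refine hn i _ ?_
      rw [Scheme.IdealSheafData.ideal_pow, Pi.pow_apply]
      exact Ideal.pow_le_pow_right (Finset.le_sup hi) h1
    have h3 := congrArg (P.presheaf.germ (V i).1 x hxi).hom h2
    rw [map_zero] at h3
    exact ((P.presheaf.germ_res_apply _ _ _ _).symm.trans h3).trans (map_zero _).symm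
  · rintro ⟨n, hn⟩
    refine TopCat.Presheaf.section_ext P.sheaf _ _ _ fun x hx => ?_
    obtain ⟨V, e, hxV, hVW, he⟩ := hsmall W.1 x hx.1
    have hxe : x ∈ P.basicOpen e := (AlmostBlow.awayFrom_inf_eq_basicOpen he).le ⟨hx.2, hxV⟩
    -- the power of the generator becomes a unit
    have h1 : ∀ c ∈ ((E ^ n).ideal W).map (resO P hVW), c * resO P hVW a = 0 := fun c hc => by
      induction hc using Submodule.span_induction with
      | mem z hz =>
        obtain ⟨d, hd, rfl⟩ := hz
        rw [← map_mul, hn d hd, map_zero]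
      | zero => exact zero_mul _
      | add y z _ _ hy hz => rw [add_mul, hy, hz, add_zero]
      | smul r y _ hy => rw [smul_eq_mul, mul_assoc, hy, mul_zero]
    have h2 : e ^ n ∈ ((E ^ n).ideal W).map (resO P hVW) := by
      refine ((E ^ n).map_ideal (show V ≤ W from hVW)).ge ?_
      rw [Scheme.IdealSheafData.ideal_pow, Pi.pow_apply, he]
      exact Ideal.pow_mem_pow (Ideal.mem_span_singleton_self e) n
    have h3 := congrArg (P.presheaf.germ V.1 x hxV).hom (h1 _ h2)
    rw [map_mul, map_pow, map_zero] at h3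
    have hu : IsUnit ((P.presheaf.germ V.1 x hxV).hom e) := (P.mem_basicOpen e x hxV).1 hxe
    replace h3 := (IsUnit.mul_right_eq_zero (hu.pow n)).1 h3
    rw [map_zero]
    exact (P.presheaf.germ_res_apply _ _ _ _).trans ((P.presheaf.germ_res_apply _ _ _ _).symm.trans h3)

/-- away from the support the torsion subscheme is everything -/
theorem isIso_restrict_torsion {𝒥 : P.IdealSheafData} (h : IsTorsionIdeal E 𝒥) :
    IsIso (𝒥.subschemeι ∣_ HTop.awayFrom E) := by
  have hc : BlowUp.IsEffCartierIdeal (E.comap (HTop.awayFrom E).ι) :=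
    BlowUpLib.comap_restrict_eq_top E _ fun z => z.2
  let l := IsClosedImmersion.lift 𝒥.subschemeι (HTop.awayFrom E).ι
    (by rw [Scheme.IdealSheafData.ker_subschemeι]; exact h.le_ker _ hc)
  exact ModPairFrac.isIso_restrict _ _ l (IsClosedImmersion.lift_fac _ _ _)

/-- the centre of an effective Cartier divisor with quasi-compact complement -/
def centreOfCartier {S : Scheme.{u}} (I : S.IdealSheafData) (hI : BlowUp.IsEffCartierIdeal I) :
    Centre (HTop.awayFrom I) where
  ideal := I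
  ft := isFiniteType_of_cover fun x => by
    obtain ⟨U, hx, f, -, hf⟩ := hI x
    exact ⟨U, hx, ⟨{f}, by rw [Finset.coe_singleton]; exact hf.symm⟩⟩
  supp := (compl_compl _).symm

theorem exists_ge_three {S : Scheme.{u}} {U : S.Opens} (A B C : Centre U) : ∃ J, A ≤ J ∧ B ≤ J ∧ C ≤ J :=
  ⟨(A.mul B).mul C, (Centre.le_mul_left A B).trans (Centre.le_mul_left _ C),
    (Centre.le_mul_right A B).trans (Centre.le_mul_left _ C), Centre.le_mul_right _ C⟩

@[simp]
theorem centreOfCartier_ideal {S : Scheme.{u}} (I : S.IdealSheafData) (hI : BlowUp.IsEffCartierIdeal I) :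
    (centreOfCartier I hI).ideal = I := rfl

theorem cartier_comap_of_le {S : Scheme.{u}} {I : S.IdealSheafData} (hI : BlowUp.IsEffCartierIdeal I)
    {J : Centre (HTop.awayFrom I)} (h : centreOfCartier I hI ≤ J) : BlowUp.IsEffCartierIdeal (I.comap J.b) := by
  have h2 := Centre.cartier_comap h
  rw [centreOfCartier_ideal] at h2
  exact h2

theorem isIso_restrict_centre {S : Scheme.{u}} {U : S.Opens} (J : Centre U) : IsIso (J.b ∣_ U) := by
  have e : J.ideal.support.compl = U := Opens.ext (by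
    show (J.ideal.support : Set S)ᶜ = _
    rw [J.supp, compl_compl])
  have h := BlowUpLib.isIso_restrict J.isBlowUp
  rwa [e] at h

set_option maxHeartbeats 800000 in
/-- **Flattening for modulus pairs.** -/
theorem exists_flat_adm {X S : Scheme.{u}} [CompactSpace S] [QuasiSeparatedSpace S] [CompactSpace X]
    [QuasiSeparatedSpace X] (IS : S.IdealSheafData) (IX : X.IdealSheafData) (hS : BlowUp.IsEffCartierIdeal IS)
    (f : X ⟶ S) (hf : ModPair.IsMinimal IX IS f) [LocallyOfFiniteType f]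
    [Flat (f ∣_ ModPair.interior IS)] [LocallyOfFinitePresentation (f ∣_ ModPair.interior IS)]
    (J₁ : Centre (HTop.awayFrom IS)) :
    ∃ (J : Centre (HTop.awayFrom IS)) (Y : Scheme.{u}) (y : Y ⟶ X) (g : Y ⟶ J.T), J₁ ≤ J ∧
      BlowUp.IsEffCartierIdeal (IS.comap J.b) ∧ ModPair.IsAdmBlowup (IS.comap J.b) IS J.b ∧
      BlowUp.IsEffCartierIdeal (IX.comap y) ∧ ModPair.IsAdmBlowup (IX.comap y) IX y ∧
      y ≫ f = g ≫ J.b ∧ Flat g ∧ LocallyOfFinitePresentation g ∧ QuasiCompact g ∧ QuasiSeparated g := by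
  haveI : QuasiCompact f := inferInstance
  haveI : QuasiSeparated f := inferInstance
  haveI : Flat (f ∣_ HTop.awayFrom IS) := ‹Flat (f ∣_ ModPair.interior IS)›
  haveI : LocallyOfFinitePresentation (f ∣_ HTop.awayFrom IS) :=
    ‹LocallyOfFinitePresentation (f ∣_ ModPair.interior IS)›
  have hU : IsCompact (HTop.awayFrom IS : Set S) := ModPairLim.isCompact_interior hS
  obtain ⟨J₀, hJ₀⟩ := exists_flattening_centre f (HTop.awayFrom IS) hU
  obtain ⟨J, hJ0, hJC, hJ1⟩ := exists_ge_three J₀ (centreOfCartier IS hS) J₁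
  have hcart : BlowUp.IsEffCartierIdeal (IS.comap J.b) := cartier_comap_of_le hS hJC
  have hsuppJ : J.ideal.support.compl = HTop.awayFrom IS := Opens.ext (by
    show (J.ideal.support : Set S)ᶜ = _
    rw [J.supp, compl_compl])
  haveI hbiso : IsIso (J.b ∣_ HTop.awayFrom IS) := isIso_restrict_centre J
  let p₁ := pullback.fst f J.b
  let p₂ := pullback.snd f J.b
  have hpb : IsPullback p₁ p₂ f J.b := IsPullback.of_hasPullback f J.b
  let E := (J.ideal.comap f).comap p₁
  have hE : HTop.IsLocPrincipal E := fun x => by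
    obtain ⟨V', e, hx, -, he⟩ := IsTorsionIdeal.exists_small J.isBlowUp.1 p₂ x ⊤ trivial
    refine ⟨V', hx, e, ?_⟩
    rw [show E = (J.ideal.comap J.b).comap p₂ by
      rw [← Scheme.IdealSheafData.comap_comp, ← hpb.w, Scheme.IdealSheafData.comap_comp]]
    exact he
  let 𝒥 := HTop.supportedOn E
  have h𝒥 : IsTorsionIdeal E 𝒥 := isTorsionIdeal_supportedOn hE
  obtain ⟨hflat, hlfp⟩ := hJ₀ J hJ0
    _ p₁ p₂ hpb 𝒥 h𝒥
  let y := 𝒥.subschemeι ≫ p₁
  let g := 𝒥.subschemeι ≫ p₂
  haveI : Flat g := hflat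
  haveI : LocallyOfFinitePresentation g := hlfp
  have hyf : y ≫ f = g ≫ J.b := by simp [y, g, hpb.w]
  haveI : QuasiCompact p₂ := inferInstance
  haveI : QuasiSeparated p₂ := inferInstance
  refine ⟨J, _, y, g, hJ1, hcart, ⟨rfl, inferInstance, hbiso⟩, ?_, ⟨rfl, inferInstance, ?_⟩, hyf,
    hflat, hlfp, inferInstance, inferInstance⟩
  · rw [hf, ← Scheme.IdealSheafData.comap_comp, hyf, Scheme.IdealSheafData.comap_comp]
    exact BlowUpLib.cartier_comap_flat hcart g
  · show IsIso (y ∣_ ModPair.interior IX)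
    rw [ModPairFrac.preimage_interior hf]
    show IsIso ((𝒥.subschemeι ≫ p₁) ∣_ (f ⁻¹ᵁ HTop.awayFrom IS))
    have e1 : p₁ ⁻¹ᵁ (f ⁻¹ᵁ HTop.awayFrom IS) = HTop.awayFrom E := by
      rw [AlmostBlow.awayFrom_comap, AlmostBlow.awayFrom_comap,
        show HTop.awayFrom J.ideal = HTop.awayFrom IS from hsuppJ]
    haveI : IsIso (p₁ ∣_ (f ⁻¹ᵁ HTop.awayFrom IS)) :=
      ModPairLim.isIso_restrict_of_isPullback hpb.flip (HTop.awayFrom IS)
    haveI : IsIso (𝒥.subschemeι ∣_ (p₁ ⁻¹ᵁ (f ⁻¹ᵁ HTop.awayFrom IS))) := e1 ▸ isIso_restrict_torsion h𝒥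
    rw [morphismRestrict_comp]
    infer_instance

end Groth.Agent.FlatBlowUp
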