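import Groth.Agent.FlatBlowUp.Piece
import Groth.Agent.FlatBlowUp.Square
import Groth.Agent.RZExt.Torsion

/-!
# Flattening of the strict transform of a scheme by an admissible blow-up
-/

set_option autoImplicit false
set_option linter.style.haveILetI false
set_option backward.isDefEq.respectTransparency false
set_option backward.isDefEq.respectTransparency.types false

universe u

open CategoryTheory CategoryTheory.Limits AlgebraicGeometry TopologicalSpace Opposite MvPolynomial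

noncomputable section

namespace Groth.Agent.FlatBlowUp

open FlatSpread RZExt

/-- a property of the functions of a restricted morphism -/
theorem appLE_of_morphismRestrict {X S : Scheme.{u}} (f : X ⟶ S) (U : S.Opens)
    {Q : ∀ {R T : CommRingCat.{u}}, (R ⟶ T) → Prop}
    (h : ∀ (D : (U : Scheme.{u}).Opens) (V : ((f ⁻¹ᵁ U) : Scheme.{u}).Opens) (e : V ≤ (f ∣_ U) ⁻¹ᵁ D),
      IsAffineOpen D → IsAffineOpen V → Q ((f ∣_ U).appLE D V e))
    {D : S.Opens} {V : X.Opens} (e : V ≤ f ⁻¹ᵁ D) (hD : IsAffineOpen D) (hV : IsAffineOpen V) (hDU : D ≤ U) :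
    Q (f.appLE D V e) := by
  have hVU : V ≤ f ⁻¹ᵁ U := fun z hz => hDU (e hz)
  have eD : U.ι ''ᵁ (U.ι ⁻¹ᵁ D) = D := by
    rw [Scheme.Hom.image_preimage_eq_opensRange_inf, Scheme.Opens.opensRange_ι, inf_eq_right.2 hDU]
  have eV : (f ⁻¹ᵁ U).ι ''ᵁ ((f ⁻¹ᵁ U).ι ⁻¹ᵁ V) = V := by
    rw [Scheme.Hom.image_preimage_eq_opensRange_inf, Scheme.Opens.opensRange_ι, inf_eq_right.2 hVU]
  have hD' : IsAffineOpen (U.ι ⁻¹ᵁ D) := hD.preimage_of_isOpenImmersion U.ι (by rw [Scheme.Opens.opensRange_ι]; exact hDU)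
  have hV' : IsAffineOpen ((f ⁻¹ᵁ U).ι ⁻¹ᵁ V) :=
    hV.preimage_of_isOpenImmersion _ (by rw [Scheme.Opens.opensRange_ι]; exact hVU)
  have e' : (f ⁻¹ᵁ U).ι ⁻¹ᵁ V ≤ (f ∣_ U) ⁻¹ᵁ (U.ι ⁻¹ᵁ D) := by
    rw [← Scheme.Hom.comp_preimage, morphismRestrict_ι, Scheme.Hom.comp_preimage]
    exact Scheme.Hom.preimage_mono _ e
  have key : ∀ (D' : S.Opens) (V' : X.Opens) (e'' : V' ≤ f ⁻¹ᵁ D'), D' = D → V' = V → Q (f.appLE D' V' e'') →
      Q (f.appLE D V e) := by
    rintro _ _ e'' rfl rfl H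
    exact H
  have H := h _ _ e' hD' hV'
  rw [morphismRestrict_appLE] at H
  exact key _ _ _ eD eV H

theorem goodOverU_structure {X S : Scheme.{u}} (f : X ⟶ S) (U : S.Opens) [Flat (f ∣_ U)]
    [LocallyOfFinitePresentation (f ∣_ U)] : GoodOverU f U (Coh.structureModule X) := by
  intro D V e hD hV hDU
  refine ⟨appLE_of_morphismRestrict f U (Q := fun φ => φ.hom.FinitePresentation) (fun D V e hD hV =>
    HasRingHomProperty.appLE @LocallyOfFinitePresentation _ inferInstance ⟨D, hD⟩ ⟨V, hV⟩ e) e hD hV hDU, ?_, ?_⟩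
  · exact (inferInstance : Module.FinitePresentation Γ(X, V) Γ(X, V))
  · exact appLE_of_morphismRestrict f U (Q := fun φ => φ.hom.Flat) (fun D V e hD hV =>
      (f ∣_ U).flat_appLE hD hV e) e hD hV hDU

/-- a finite family of pieces with a presentation of the functions -/
theorem exists_pieces {X S : Scheme.{u}} (f : X ⟶ S) [LocallyOfFiniteType f] [CompactSpace X] :
    ∃ (r : ℕ) (W : Fin r → S.affineOpens) (V : Fin r → X.affineOpens) (hVW : ∀ i, (V i).1 ≤ f ⁻¹ᵁ (W i).1)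
      (n : Fin r → ℕ) (π : ∀ i, MvPolynomial (Fin (n i)) Γ(S, (W i).1) →+* Γ(X, (V i).1)),
      (∀ i, (∀ a, π i (C a) = (f.appLE (W i).1 (V i).1 (hVW i)).hom a) ∧ Function.Surjective (π i)) ∧
      ∀ x : X, ∃ i, x ∈ (V i).1 := by
  classical
  have h : ∀ x : X, ∃ (W : S.affineOpens) (V : X.affineOpens), V.1 ≤ f ⁻¹ᵁ W.1 ∧ x ∈ V.1 := fun x => by
    obtain ⟨W, hW, hxW, -⟩ := exists_isAffineOpen_mem_and_subset (X := S) (U := ⊤) (show f x ∈ (⊤ : S.Opens) from trivial)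
    obtain ⟨V, hV, hxV, hVW⟩ := exists_isAffineOpen_mem_and_subset (X := X) (U := f ⁻¹ᵁ W) hxW
    exact ⟨⟨W, hW⟩, ⟨V, hV⟩, hVW, hxV⟩
  choose W V hVW hxV using h
  obtain ⟨T, hT⟩ := isCompact_univ.elim_finite_subcover (fun x => ((V x).1 : Set X)) (fun x => (V x).1.2)
    (fun x _ => Set.mem_iUnion.2 ⟨x, hxV x⟩)
  let e := T.equivFin
  have hπ : ∀ i, ∃ (n : ℕ) (π : MvPolynomial (Fin n) Γ(S, (W (e.symm i).1).1) →+* Γ(X, (V (e.symm i).1).1)),
      (∀ a, π (C a) = (f.appLE (W (e.symm i).1).1 (V (e.symm i).1).1 (hVW _)).hom a) ∧ Function.Surjective π := fun i => by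
    have hft : ((f.appLE (W (e.symm i).1).1 (V (e.symm i).1).1 (hVW _))).hom.FiniteType :=
      HasRingHomProperty.appLE @LocallyOfFiniteType f inferInstance _ _ _
    letI := (f.appLE (W (e.symm i).1).1 (V (e.symm i).1).1 (hVW _)).hom.toAlgebra
    haveI : Algebra.FiniteType Γ(S, (W (e.symm i).1).1) Γ(X, (V (e.symm i).1).1) := hft
    obtain ⟨n, π, hπ⟩ := Algebra.FiniteType.iff_quotient_mvPolynomial''.1
      (inferInstance : Algebra.FiniteType Γ(S, (W (e.symm i).1).1) Γ(X, (V (e.symm i).1).1))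
    exact ⟨n, π.toRingHom, fun a => π.commutes a, hπ⟩
  choose n π hπC hπs using hπ
  refine ⟨T.card, fun i => W (e.symm i).1, fun i => V (e.symm i).1, fun i => hVW _, n, π,
    fun i => ⟨hπC i, hπs i⟩, fun x => ?_⟩
  obtain ⟨y, hy, hxy⟩ := Set.mem_iUnion₂.1 (hT (Set.mem_univ x))
  exact ⟨e ⟨y, hy⟩, by simpa using hxy⟩

/-- the kernel of a presentation is read off its relations -/
theorem fg_ker_of_relSub {A B : Type u} [CommRing A] [CommRing B] [Algebra A B] {n : ℕ}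
    (π : MvPolynomial (Fin n) A →ₐ[A] B) (h : (relSub π fun _ : Fin 1 => (1 : B)).FG) :
    (RingHom.ker π.toRingHom).FG := by
  classical
  obtain ⟨T, hT⟩ := h
  refine ⟨T.image fun x => x 0, le_antisymm (Ideal.span_le.2 fun p hp => ?_) fun p hp => ?_⟩
  · obtain ⟨x, hx, rfl⟩ := Finset.mem_image.1 hp
    have h1 : qMap π (fun _ : Fin 1 => (1 : B)) x = 0 := mem_relSub.1 (hT ▸ Submodule.subset_span hx)
    rw [qMap_apply, Fin.sum_univ_one, smul_eq_mul, mul_one] at h1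
    exact RingHom.mem_ker.2 h1
  · have h1 : (fun _ : Fin 1 => p) ∈ relSub π fun _ : Fin 1 => (1 : B) := by
      rw [mem_relSub, qMap_apply, Fin.sum_univ_one, smul_eq_mul, mul_one]
      exact RingHom.mem_ker.1 hp
    rw [← hT] at h1
    have key : ∀ x ∈ Submodule.span (MvPolynomial (Fin n) A) (T : Set (Fin 1 → MvPolynomial (Fin n) A)),
        x 0 ∈ Ideal.span ((T.image fun x => x 0 : Finset (MvPolynomial (Fin n) A)) : Set (MvPolynomial (Fin n) A)) := by
      intro x hx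
      induction hx using Submodule.span_induction with
      | mem x hx => exact Ideal.subset_span (Finset.mem_image_of_mem _ hx)
      | zero => exact zero_mem _
      | add a b _ _ ha hb => exact add_mem ha hb
      | smul c a _ ha => exact Ideal.mul_mem_left _ c ha
    exact key _ h1

set_option maxHeartbeats 1600000 in
/-- **Flattening by an admissible blow-up (Raynaud-Gruson), for schemes.** -/
theorem exists_flattening_centre {X S : Scheme.{u}} [CompactSpace S] [QuasiSeparatedSpace S] (f : X ⟶ S)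
    [LocallyOfFiniteType f] [QuasiCompact f] (U : S.Opens) (hU : IsCompact (U : Set S)) [Flat (f ∣_ U)]
    [LocallyOfFinitePresentation (f ∣_ U)] :
    ∃ J₀ : Centre U, ∀ J, J₀ ≤ J → ∀ (X' : Scheme.{u}) (p₁ : X' ⟶ X) (p₂ : X' ⟶ J.T), IsPullback p₁ p₂ f J.b →
      ∀ (𝒥 : X'.IdealSheafData), IsTorsionIdeal ((J.ideal.comap f).comap p₁) 𝒥 →
        Flat (𝒥.subschemeι ≫ p₂) ∧ LocallyOfFinitePresentation (𝒥.subschemeι ≫ p₂) := by
  classical
  haveI : CompactSpace X := QuasiCompact.compactSpace_of_compactSpace f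
  obtain ⟨r, W, V, hVW, n, π, hπ, hcov⟩ := exists_pieces f
  have hone : ∀ i, Submodule.span Γ(X, (V i).1)
      (Set.range fun _ : Fin 1 => ((1 : Γ(X, (V i).1)) : Γ(Coh.structureModule X, (V i).1))) = ⊤ := fun i =>
    eq_top_iff.2 fun y _ => (Submodule.mem_span_range_iff_exists_fun Γ(X, (V i).1)).2
      ⟨fun _ => (y : Γ(X, (V i).1)), by rw [Fin.sum_univ_one]; exact mul_one (y : Γ(X, (V i).1))⟩
  choose J₀ hJ₀ using fun i => exists_centre_piece hU (goodOverU_structure f U) (QC.isQCoh_unit X) (W i) (V i).2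
    (hVW i) (π i) (hπ i).1 (hπ i).2 (fun _ : Fin 1 => ((1 : Γ(X, (V i).1)) : Γ(Coh.structureModule X, (V i).1))) (hone i)
  haveI := nonempty_centre U hU
  obtain ⟨J₁, hJ₁⟩ := Directed.finset_le (r := (· ≤ ·)) (f := id) (directed_id) (Finset.univ.image J₀)
  refine ⟨J₁, fun J hJ X' p₁ p₂ hpb 𝒥 h𝒥 => ?_⟩
  suffices key : ∀ z : 𝒥.subscheme, ∃ (G : J.T.affineOpens) (O : 𝒥.subscheme.affineOpens) (_ : z ∈ O.1)
      (e : O.1 ≤ (𝒥.subschemeι ≫ p₂) ⁻¹ᵁ G.1), ((𝒥.subschemeι ≫ p₂).appLE G.1 O.1 e).hom.Flat ∧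
        ((𝒥.subschemeι ≫ p₂).appLE G.1 O.1 e).hom.FinitePresentation by
    refine ⟨(HasRingHomProperty.iff_exists_appLE (P := @Flat) (RingHom.Flat.stableUnderComposition.stableUnderCompositionWithLocalizationAway
      RingHom.Flat.holdsForLocalizationAway).left).2 fun z => ?_,
      (HasRingHomProperty.iff_exists_appLE (P := @LocallyOfFinitePresentation)
      (RingHom.finitePresentation_stableUnderComposition.stableUnderCompositionWithLocalizationAway
        RingHom.finitePresentation_holdsForLocalizationAway).left).2 fun z => ?_⟩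
    · obtain ⟨G, O, hz, e, h1, -⟩ := key z
      exact ⟨G, O, hz, e, h1⟩
    · obtain ⟨G, O, hz, e, -, h2⟩ := key z
      exact ⟨G, O, hz, e, h2⟩
  intro z
  obtain ⟨i, hxi⟩ := hcov (p₁ (𝒥.subschemeι z))
  have htW : J.b (p₂ (𝒥.subschemeι z)) ∈ (W i).1 := by
    rw [← Scheme.Hom.comp_apply p₂ J.b, ← hpb.w, Scheme.Hom.comp_apply]
    exact hVW i hxi
  obtain ⟨G, hGW, g, htG, hg, hgen, hgood⟩ :=
    hJ₀ i J ((hJ₁ _ (Finset.mem_image_of_mem _ (Finset.mem_univ i))).trans hJ) _ htW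
  obtain ⟨π', -, hπ', -, -, hrel⟩ := exists_presentation_piece hpb (W i).2 (V i).2 (hVW i) G.2 hGW
    (QC.isQCoh_unit X) (π i) (hπ i).1 (hπ i).2
    (fun _ : Fin 1 => ((1 : Γ(X, (V i).1)) : Γ(Coh.structureModule X, (V i).1))) (hone i)
  let O : X'.Opens := p₁ ⁻¹ᵁ (V i).1 ⊓ p₂ ⁻¹ᵁ G.1
  have hO : IsAffineOpen O := isAffineOpen_piece hpb (W i).2 (V i).2 (hVW i) G.2 hGW
  let O' : 𝒥.subscheme.Opens := 𝒥.subschemeι ⁻¹ᵁ O
  have hO' : IsAffineOpen O' := hO.preimage 𝒥.subschemeι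
  have eO : O' ≤ (𝒥.subschemeι ≫ p₂) ⁻¹ᵁ G.1 := fun y hy => hy.2
  refine ⟨G, ⟨O', hO'⟩, ⟨hxi, htG⟩, eO, ?_⟩
  let A' := Γ(J.T, G.1)
  let B' := Γ(X', O)
  let B'' := Γ(𝒥.subscheme, O')
  letI : Algebra A' B' := (p₂.appLE G.1 O inf_le_right).hom.toAlgebra
  letI : Algebra B' B'' := (𝒥.subschemeι.app O).hom.toAlgebra
  letI : Algebra A' B'' := ((𝒥.subschemeι ≫ p₂).appLE G.1 O' eO).hom.toAlgebra
  haveI : IsScalarTower A' B' B'' := IsScalarTower.of_algebraMap_eq fun a => by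
    show ((𝒥.subschemeι ≫ p₂).appLE G.1 O' eO).hom a = (p₂.appLE G.1 O inf_le_right ≫ 𝒥.subschemeι.app O).hom a
    rw [← Scheme.Hom.appLE_comp_appLE 𝒥.subschemeι p₂ G.1 O O' inf_le_right le_rfl, Scheme.Hom.app_eq_appLE]
  -- the exceptional ideal on the piece
  have hE : ((J.ideal.comap f).comap p₁).ideal ⟨O, hO⟩ = Ideal.span {algebraMap A' B' g} := by
    rw [← Scheme.IdealSheafData.comap_comp, hpb.w, Scheme.IdealSheafData.comap_comp,
      FpqcDescent.ideal_comap_appLE _ p₂ G ⟨O, hO⟩ inf_le_right, hgen, Ideal.map_span, Set.image_singleton]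
    rfl
  let r' : B' →ₗ[B'] B'' := Algebra.linearMap B' B''
  have hker : ∀ y, r' y = 0 ↔ ∃ k : ℕ, g ^ k • y = 0 := fun y => by
    show (𝒥.subschemeι.app O).hom y = 0 ↔ _
    rw [← RingHom.mem_ker, Scheme.IdealSheafData.ker_subschemeι_app 𝒥 ⟨O, hO⟩, h𝒥.mem_iff_of_span hE]
    simp only [Algebra.smul_def, map_pow]
    exact Iff.rfl
  have hsurj : Function.Surjective (algebraMap B' B'') := 𝒥.subschemeι_app_surjective ⟨O, hO⟩
  let π'' : MvPolynomial (Fin (n i)) A' →ₐ[A'] B'' := (IsScalarTower.toAlgHom A' B' B'').comp π'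
  have hπ'' : Function.Surjective π'' := hsurj.comp hπ'
  have hr1 : relSub π' (fun _ : Fin 1 => r' (1 : B')) = relSub π'' fun _ : Fin 1 => (1 : B'') := by
    ext x
    rw [mem_relSub, mem_relSub, qMap_apply, qMap_apply, Fin.sum_univ_one, Fin.sum_univ_one, Algebra.smul_def]
    simp only [r', Algebra.linearMap_apply, map_one, mul_one, smul_eq_mul]
    rfl
  have hsat := (congrArg (sat g) hrel.symm).trans ((sat_relSub π' (fun _ : Fin 1 => (1 : B')) r' g hker).trans hr1)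
  have h1 : Submodule.span B'' (Set.range fun _ : Fin 1 => (1 : B'')) = ⊤ := eq_top_iff.2 fun y _ =>
    (Submodule.mem_span_range_iff_exists_fun B'').2 ⟨fun _ => y, by simp⟩
  obtain ⟨hfg, hflat⟩ := hgood
  refine ⟨(flat_quot_relSub_iff hπ'' h1).1 (flat_quot_congr hsat hflat), ?_⟩
  exact Algebra.FinitePresentation.of_surjective hπ'' (fg_ker_of_relSub π'' (hsat ▸ hfg))

end Groth.Agent.FlatBlowUp
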