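import Mathlib

/-!
# Fibres of flat algebras that are finite at generisations are finite
-/

set_option autoImplicit false
set_option linter.style.haveILetI false

universe u

open TensorProduct

namespace Groth.Agent.FlatBlowUp

/-- Over a local domain, the special fibre of a flat module is at most as big as the generic one. -/
theorem finite_residue_of_finite_fraction {R K M : Type u} [CommRing R] [IsDomain R] [IsLocalRing R] [Field K]
    [Algebra R K] [IsFractionRing R K] [AddCommGroup M] [Module R M] [Module.Flat R M]
    [Module.Finite K (K ⊗[R] M)] : Module.Finite (IsLocalRing.ResidueField R) (IsLocalRing.ResidueField R ⊗[R] M) := by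
  let k := IsLocalRing.ResidueField R
  have hrank : Module.rank k (k ⊗[R] M) ≤ (Module.finrank K (K ⊗[R] M) : ℕ) := by
    refine rank_le fun s hs => ?_
    have hsurj : Function.Surjective (TensorProduct.mk R k M 1) :=
      TensorProduct.mk_surjective R M k IsLocalRing.residue_surjective
    choose v hv using fun x : s => hsurj x.1
    have h1 : LinearIndependent R v := Module.IsLocalRing.linearIndependent_of_flat v (by
      rw [show TensorProduct.mk R k M 1 ∘ v = (Subtype.val : s → k ⊗[R] M) from funext hv]
      exact hs)
    have hinj : Function.Injective (TensorProduct.mk R K M 1) := by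
      have h : Function.Injective ((Algebra.linearMap R K).rTensor M) :=
        Module.Flat.rTensor_preserves_injective_linearMap _ (IsFractionRing.injective R K)
      intro a b hab
      have := h (a₁ := (1 : R) ⊗ₜ a) (a₂ := (1 : R) ⊗ₜ b) (by simpa using hab)
      simpa using congrArg (TensorProduct.lid R M) this
    have h2 : LinearIndependent R (TensorProduct.mk R K M 1 ∘ v) := h1.map' _ (LinearMap.ker_eq_bot.2 hinj)
    have h3 : LinearIndependent K (TensorProduct.mk R K M 1 ∘ v) :=
      (LinearIndependent.iff_fractionRing R K).1 h2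
    simpa using h3.fintype_card_le_finrank
  exact Module.rank_lt_aleph0_iff.1 (hrank.trans_lt (Cardinal.natCast_lt_aleph0))

/-- a flat algebra with finite fibre at a generisation has finite fibre -/
theorem finite_fiber_of_le {A B : Type u} [CommRing A] [CommRing B] [Algebra A B] [Module.Flat A B]
    {q P : Ideal A} [q.IsPrime] [P.IsPrime] (hle : q ≤ P) [Module.Finite q.ResidueField (q.Fiber B)] :
    Module.Finite P.ResidueField (P.Fiber B) := by
  let P' : Ideal (A ⧸ q) := P.map (Ideal.Quotient.mk q)
  haveI : P'.IsPrime := Ideal.map_isPrime_of_surjective Ideal.Quotient.mk_surjective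
    (by rw [Ideal.mk_ker]; exact hle)
  have hcomap : P'.comap (Ideal.Quotient.mk q) = P := by
    rw [Ideal.comap_map_of_surjective _ Ideal.Quotient.mk_surjective, ← RingHom.ker_eq_comap_bot, Ideal.mk_ker,
      sup_eq_left.2 hle]
  let R := Localization.AtPrime P'
  let K := FractionRing (A ⧸ q)
  haveI : IsDomain R := IsLocalization.isDomain_localization P'.primeCompl_le_nonZeroDivisors
  letI : Algebra R K := IsLocalization.localizationAlgebraOfSubmonoidLe R K P'.primeCompl (nonZeroDivisors (A ⧸ q))
    P'.primeCompl_le_nonZeroDivisors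
  haveI : IsScalarTower (A ⧸ q) R K := IsLocalization.localization_isScalarTower_of_submonoid_le R K P'.primeCompl
    (nonZeroDivisors (A ⧸ q)) P'.primeCompl_le_nonZeroDivisors
  haveI : IsFractionRing R K := IsFractionRing.isFractionRing_of_isDomain_of_isLocalization P'.primeCompl R K
  haveI : IsScalarTower A R K := IsScalarTower.of_algebraMap_eq fun a => by
    rw [IsScalarTower.algebraMap_apply A (A ⧸ q) K, IsScalarTower.algebraMap_apply A (A ⧸ q) R,
      ← IsScalarTower.algebraMap_apply (A ⧸ q) R K]
  have hKq : ∀ a, algebraMap A K a = algebraMap (A ⧸ q) K (Ideal.Quotient.mk q a) := fun a =>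
    IsScalarTower.algebraMap_apply A (A ⧸ q) K a
  -- the generic fibre
  let φ : q.ResidueField →+* K := Ideal.ResidueField.lift q (algebraMap A K)
    (fun a ha => by rw [RingHom.mem_ker, hKq, Ideal.Quotient.eq_zero_iff_mem.2 ha, map_zero])
    (fun a (ha : a ∉ q) => by
      refine (isUnit_iff_ne_zero (a := algebraMap A K a)).2 ?_
      rw [hKq]
      exact fun h => ha (Ideal.Quotient.eq_zero_iff_mem.1 ((IsFractionRing.injective (A ⧸ q) K) (h.trans (map_zero _).symm))))
  letI : Algebra q.ResidueField K := φ.toAlgebra
  haveI : IsScalarTower A q.ResidueField K := IsScalarTower.of_algebraMap_eq fun a =>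
    (Ideal.ResidueField.lift_algebraMap q _ _ _ a).symm
  haveI : Module.Finite K (K ⊗[A] B) :=
    Module.Finite.equiv (AlgebraTensorModule.cancelBaseChange A q.ResidueField K K B)
  let M := R ⊗[A] B
  haveI : Module.Finite K (K ⊗[R] M) :=
    Module.Finite.equiv (AlgebraTensorModule.cancelBaseChange A R K K B).symm
  haveI := finite_residue_of_finite_fraction (R := R) (K := K) (M := M)
  let k := IsLocalRing.ResidueField R
  haveI : Module.Finite k (k ⊗[A] B) := Module.Finite.equiv (AlgebraTensorModule.cancelBaseChange A R k k B)
  let χ : P.ResidueField →+* k := Ideal.ResidueField.lift P (algebraMap A k)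
    (fun a ha => by
      rw [RingHom.mem_ker, IsScalarTower.algebraMap_apply A R k, IsLocalRing.ResidueField.algebraMap_eq,
        IsLocalRing.residue_eq_zero_iff]
      refine (IsLocalization.AtPrime.to_map_mem_maximal_iff R P' _).2 ?_
      rw [← Ideal.mem_comap, hcomap]
      exact ha)
    (fun a (ha : a ∉ P) => by
      show IsUnit (algebraMap A k a)
      rw [IsScalarTower.algebraMap_apply A R k]
      refine IsUnit.map _ ((IsLocalization.AtPrime.isUnit_to_map_iff R P' _).2 ?_)
      show Ideal.Quotient.mk q a ∉ P'
      rw [← Ideal.mem_comap, hcomap]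
      exact ha)
  letI : Algebra P.ResidueField k := χ.toAlgebra
  haveI : IsScalarTower A P.ResidueField k := IsScalarTower.of_algebraMap_eq fun a =>
    (Ideal.ResidueField.lift_algebraMap P _ _ _ a).symm
  haveI : Module.Finite k (k ⊗[P.ResidueField] (P.Fiber B)) :=
    Module.Finite.equiv (AlgebraTensorModule.cancelBaseChange A P.ResidueField k k B).symm
  exact Module.Finite.of_finite_tensorProduct_of_faithfullyFlat k

/-- **A flat algebra quasi-finite off a regular element is quasi-finite.** -/
theorem quasiFinite_of_flat_of_away {A B : Type u} [CommRing A] [CommRing B] [Algebra A B] [Module.Flat A B] {g : A}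
    (hg : g ∈ nonZeroDivisors A)
    (h : ∀ (q : Ideal A) [q.IsPrime], g ∉ q → Module.Finite q.ResidueField (q.Fiber B)) :
    Algebra.QuasiFinite A B := by
  refine ⟨fun P hP => ?_⟩
  obtain ⟨q, hq, hqP⟩ := Ideal.exists_minimalPrimes_le (I := (⊥ : Ideal A)) (J := P) bot_le
  haveI := hq.1.1
  have hgq : g ∉ q := fun hmem =>
    Set.disjoint_left.1 (Ideal.disjoint_nonZeroDivisors_of_mem_minimalPrimes hq) hmem hg
  haveI := h q hgq
  exact finite_fiber_of_le hqP

end Groth.Agent.FlatBlowUp
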