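import Groth.Agent.S0386
import Groth.Agent.FpqcDescent.Immersion
import Mathlib

/-!
# A morphism of finite presentation to a reduced scheme is flat over a dense quasi-compact open
-/

set_option autoImplicit false
set_option linter.style.haveILetI false
set_option backward.isDefEq.respectTransparency false
set_option backward.isDefEq.respectTransparency.types false

universe u

open CategoryTheory CategoryTheory.Limits AlgebraicGeometry TopologicalSpace IsLocalRing

noncomputable section

namespace Groth.Agent.FlatBlowUp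

/-- The stalk of a reduced scheme at a maximal point is a field. -/
theorem isField_stalk_of_maximal {Y : Scheme.{u}} [AlgebraicGeometry.IsReduced Y] (η : Y)
    (h : ∀ z : Y, z ⤳ η → z = η) : IsField (Y.presheaf.stalk η) := by
  have : Subsingleton (Spec (Y.presheaf.stalk η)) := by
    refine ⟨fun a b => (Y.fromSpecStalk η).isEmbedding.injective ?_⟩
    have ha : Y.fromSpecStalk η a ∈ {y | y ⤳ η} := Scheme.range_fromSpecStalk (x := η) ▸ ⟨a, rfl⟩
    have hb : Y.fromSpecStalk η b ∈ {y | y ⤳ η} := Scheme.range_fromSpecStalk (x := η) ▸ ⟨b, rfl⟩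
    rw [h _ ha, h _ hb]
  have hm : maximalIdeal (Y.presheaf.stalk η) = ⊥ := by
    refine le_bot_iff.1 fun x hx => ?_
    have hn : x ∈ nilradical (Y.presheaf.stalk η) := by
      rw [nilradical_eq_sInf]
      refine Ideal.mem_sInf.2 fun {P} hP => ?_
      have e : (⟨P, hP⟩ : PrimeSpectrum (Y.presheaf.stalk η)) = closedPoint _ :=
        @Subsingleton.elim _ this _ _
      rw [show P = maximalIdeal _ from congrArg PrimeSpectrum.asIdeal e]
      exact hx
    exact Ideal.mem_bot.2 (mem_nilradical.1 hn).eq_zero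
  exact isField_iff_maximalIdeal_eq.2 hm

/-- Every point is a specialization of a maximal point. -/
theorem exists_maximal_specializes (Y : Scheme.{u}) (y : Y) :
    ∃ η : Y, (∀ z : Y, z ⤳ η → z = η) ∧ η ⤳ y := by
  have hc := irreducibleComponent_mem_irreducibleComponents y
  have hcl : IsClosed (irreducibleComponent y) := isClosed_irreducibleComponent
  let η := (isIrreducible_irreducibleComponent (x := y)).genericPoint
  have hη : IsGenericPoint η (irreducibleComponent y) := by
    have h := (isIrreducible_irreducibleComponent (x := y)).isGenericPoint_genericPoint hcl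
    exact h
  refine ⟨η, fun z hz => ?_, hη.specializes mem_irreducibleComponent⟩
  have hsub : irreducibleComponent y ⊆ closure {z} := by
    rw [← hη.def]
    exact closure_minimal (Set.singleton_subset_iff.2 hz.mem_closure) isClosed_closure
  have heq : closure {z} = irreducibleComponent y :=
    (eq_irreducibleComponent isIrreducible_singleton.closure.isPreirreducible hsub)
  exact (hη.eq (show IsGenericPoint z (irreducibleComponent y) from heq)).symm

/-- A quasi-compact morphism locally of finite presentation to a reduced scheme with quasi-compact space of maximal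
points is flat over a dense quasi-compact open. -/
theorem exists_dense_flat_open {X Y : Scheme.{u}} [AlgebraicGeometry.IsReduced Y]
    (hgen : IsCompact {y : Y | ∀ y' : Y, y' ⤳ y → y' = y}) (f : X ⟶ Y) [LocallyOfFinitePresentation f]
    [QuasiCompact f] :
    ∃ U : Y.Opens, Dense (U : Set Y) ∧ IsCompact (U : Set Y) ∧ Flat (f ∣_ U) := by
  let Z : Set X := {x : X | (f.stalkMap x).hom.Flat}ᶜ
  have hZc : IsClosed Z := (Groth.Agent.S0386.result f).isClosed_compl
  let i := (⟨Z, hZc⟩ : Closeds X)
  have hmax : ∀ y : Y, (∀ y' : Y, y' ⤳ y → y' = y) → y ∉ closure (f '' Z) := by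
    intro y hy hcl
    let 𝒵 := Scheme.IdealSheafData.vanishingIdeal i
    have hr : Set.range (𝒵.subschemeι ≫ f) = f '' Z := by
      rw [Scheme.Hom.comp_base, TopCat.coe_comp, Set.range_comp, Scheme.IdealSheafData.range_subschemeι]
      rw [Scheme.IdealSheafData.coe_support_vanishingIdeal]
      rfl
    rw [← hr] at hcl
    obtain ⟨t, ht⟩ := FpqcDescent.exists_specializes_of_mem_closure (𝒵.subschemeι ≫ f) hcl
    have hty := hy _ ht
    have hx : 𝒵.subschemeι t ∈ Z := by
      have h : 𝒵.subschemeι t ∈ Set.range 𝒵.subschemeι := ⟨t, rfl⟩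
      rw [Scheme.IdealSheafData.range_subschemeι, Scheme.IdealSheafData.coe_support_vanishingIdeal] at h
      exact h
    refine hx ?_
    have hF : IsField (Y.presheaf.stalk (f (𝒵.subschemeι t))) := by
      refine isField_stalk_of_maximal _ ?_
      rw [show f (𝒵.subschemeι t) = y from hty]
      exact hy
    letI := hF.toField
    letI := (f.stalkMap (𝒵.subschemeι t)).hom.toAlgebra
    exact (inferInstance : Module.Flat (Y.presheaf.stalk (f (𝒵.subschemeι t))) (X.presheaf.stalk (𝒵.subschemeι t)))
  let W₀ : Y.Opens := ⟨(closure (f '' Z))ᶜ, isClosed_closure.isOpen_compl⟩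
  choose V hV hyV hVW using fun (y : Y) (hy : y ∈ W₀) => exists_isAffineOpen_mem_and_subset (U := W₀) (x := y) hy
  obtain ⟨s, hs⟩ := hgen.elim_finite_subcover (fun y : W₀ => (V y.1 y.2 : Set Y)) (fun y => (V y.1 y.2).2)
    (fun y hy => Set.mem_iUnion.2 ⟨⟨y, hmax y hy⟩, hyV y (hmax y hy)⟩)
  refine ⟨⨆ y ∈ s, V y.1 y.2, ?_, ?_, ?_⟩
  · rw [dense_iff_closure_eq, Set.eq_univ_iff_forall]
    intro y
    obtain ⟨η, hη, hηy⟩ := exists_maximal_specializes Y y
    refine hηy.mem_closed isClosed_closure (subset_closure ?_)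
    obtain ⟨_, ⟨⟨w, hw⟩, rfl⟩, hηw⟩ := Set.mem_iUnion₂.1 (hs hη) |>.elim fun a ha => ha.elim fun b hb => by
      exact (⟨_, ⟨⟨a, b⟩, rfl⟩, hb⟩ : ∃ S, (∃ p : {a // a ∈ s}, S = (V p.1.1 p.1.2 : Set Y)) ∧ η ∈ S)
    exact Opens.mem_iSup.2 ⟨w, Opens.mem_iSup.2 ⟨hw, hηw⟩⟩
  · rw [show ((⨆ y ∈ s, V y.1 y.2 : Y.Opens) : Set Y) = ⋃ y ∈ s, (V y.1 y.2 : Set Y) by simp]
    exact s.isCompact_biUnion fun y _ => (hV y.1 y.2).isCompact
  · set U : Y.Opens := ⨆ y ∈ s, V y.1 y.2 with hU
    refine (Flat.iff_flat_stalkMap _).2 fun x => (RingHom.Flat.respectsIso.arrow_mk_iso_iff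
      (morphismRestrictStalkMap f U x)).2 ?_
    by_contra hx
    have hle : U ≤ W₀ := iSup₂_le fun y _ => hVW y.1 y.2
    exact hle x.2 (subset_closure ⟨x.1, hx, rfl⟩)

end Groth.Agent.FlatBlowUp

end
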