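import Groth.Agent.FlatBlowUp.Sat
import Groth.Agent.RZExt.Alg
import Groth.Agent.LocalCrit.AwayQuot
import Groth.Agent.RG.FiniteType
import Mathlib.RingTheory.Localization.BaseChange
import Mathlib.RingTheory.Valuation.ValuationRing

/-!
# Strict transforms over a semivaluation ring are flat and finitely presented
-/

set_option autoImplicit false
set_option linter.style.haveILetI false
set_option backward.isDefEq.respectTransparency false
set_option backward.isDefEq.respectTransparency.types false

universe u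

open MvPolynomial TensorProduct

namespace Groth.Agent.FlatBlowUp

open FlatSpread

section Coeff

variable {R R' : Type u} [CommRing R] [CommRing R'] {σ ι : Type} [Finite ι] (φ : R →+* R')

theorem repr_kL (u : ι → MvPolynomial σ R) (r : Σ _ : ι, (σ →₀ ℕ)) :
    (vb σ ι R').repr (kL φ u) r = φ ((vb σ ι R).repr u r) := by
  classical
  induction ((vb σ ι R).mem_span u) using Submodule.span_induction with
  | mem x hx =>
    obtain ⟨i, rfl⟩ := hx
    rw [kL_vb, Module.Basis.repr_self, Module.Basis.repr_self, Finsupp.single_apply, Finsupp.single_apply,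
      apply_ite φ, map_one, map_zero]
  | zero => simp
  | add x y _ _ hx hy => rw [map_add, map_add, Finsupp.add_apply, hx, hy, map_add, Finsupp.add_apply, map_add]
  | smul c x _ hx =>
    rw [kL_smul_const, map_smul, map_smul, Finsupp.smul_apply, Finsupp.smul_apply, hx, smul_eq_mul,
      smul_eq_mul, map_mul]

/-- a vector killed by `φ` is divisible by `t` when the kernel is divisible by `t` -/
theorem exists_eq_smul {t : R} (h : ∀ c, φ c = 0 → ∃ c', c = t * c' ∧ φ c' = 0) {u : ι → MvPolynomial σ R}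
    (hu : kL φ u = 0) : ∃ u', u = t • u' ∧ kL φ u' = 0 := by
  classical
  have hc : ∀ r, φ ((vb σ ι R).repr u r) = 0 := fun r => by rw [← repr_kL, hu, map_zero, Finsupp.zero_apply]
  choose c hc₁ hc₂ using fun r => h _ (hc r)
  refine ⟨∑ r ∈ ((vb σ ι R).repr u).support, c r • vb σ ι R r, ?_, ?_⟩
  · conv_lhs => rw [← (vb σ ι R).linearCombination_repr u]
    rw [Finsupp.linearCombination_apply, Finsupp.sum, Finset.smul_sum]
    refine Finset.sum_congr rfl fun r _ => ?_
    rw [smul_smul, ← hc₁ r]
  · rw [map_sum]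
    refine Finset.sum_eq_zero fun r _ => ?_
    rw [kL_smul_const, hc₂, zero_smul]

/-- elements of an extension along a surjection lift -/
theorem exists_of_mem_ext (hφ : Function.Surjective φ)
    {W : Submodule (MvPolynomial σ R) (ι → MvPolynomial σ R)} {y : ι → MvPolynomial σ R'} (hy : y ∈ ext φ W) :
    ∃ x ∈ W, kL φ x = y := by
  induction hy using Submodule.span_induction with
  | mem y hy => obtain ⟨x, hx, rfl⟩ := hy; exact ⟨x, hx, rfl⟩
  | zero => exact ⟨0, W.zero_mem, map_zero _⟩
  | add y z _ _ hy hz =>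
    obtain ⟨x, hx, rfl⟩ := hy
    obtain ⟨x', hx', rfl⟩ := hz
    exact ⟨x + x', W.add_mem hx hx', map_add _ _ _⟩
  | smul p y _ hy =>
    obtain ⟨x, hx, rfl⟩ := hy
    obtain ⟨q, rfl⟩ := MvPolynomial.map_surjective φ hφ p
    exact ⟨q • x, W.smul_mem q hx, LinearMap.map_smulₛₗ _ _ _⟩

end Coeff

variable {R : Type u} [CommRing R] {a : R} (ha : a ∈ nonZeroDivisors R)
  (hpair : ∀ (n : ℕ) (p q : R), a ^ n ∈ Ideal.span {p, q} → p ∣ q ∨ q ∣ p)
  [IsLocalRing (Localization.Away a)] {σ ι : Type} [Finite ι]

local notation "Ra" => Localization.Away a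
local notation "vR" => RZExt.valMap hpair (Localization.Away a)

include ha in
omit [IsLocalRing (Localization.Away a)] in
theorem injective_away : Function.Injective (algebraMap R Ra) :=
  IsLocalization.injective _ (M := Submonoid.powers a) (Submonoid.powers_le.2 ha)

theorem valMap_gen_ne_zero : vR a ≠ 0 := fun h =>
  (RZExt.valMap_eq_zero_iff hpair Ra a).1 h (IsLocalization.Away.algebraMap_isUnit a)

include ha in
theorem exists_pow_eq_mul_of_ne {c : R} (hc : vR c ≠ 0) : ∃ (n : ℕ) (d : R), c * d = a ^ n := by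
  obtain ⟨w, hw⟩ := (not_not.1 ((RZExt.valMap_eq_zero_iff hpair Ra c).not.1 hc)).exists_right_inv
  obtain ⟨d, ⟨_, n, rfl⟩, rfl⟩ := IsLocalization.exists_mk'_eq (Submonoid.powers a) w
  refine ⟨n, d, injective_away ha ?_⟩
  rw [map_mul, ← IsLocalization.mk'_spec Ra d (⟨a ^ n, n, rfl⟩ : Submonoid.powers a), ← mul_assoc, hw, one_mul]

include ha in
/-- the kernel of the map to the valuation ring is divisible by every power of `a` -/
theorem exists_div_pow (n : ℕ) (c : R) (hc : vR c = 0) : ∃ c', c = a ^ n * c' ∧ vR c' = 0 := by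
  obtain ⟨c', rfl⟩ := RZExt.valMap_dvd hpair Ra (injective_away ha) c (a ^ n) hc
    (by rw [map_pow]; exact pow_ne_zero _ (valMap_gen_ne_zero hpair))
  refine ⟨c', rfl, ?_⟩
  rw [map_mul, map_pow] at hc
  exact (mul_eq_zero.1 hc).resolve_left (pow_ne_zero _ (valMap_gen_ne_zero hpair))

include ha in
/-- the image of a saturated module in the valuation ring is saturated -/
theorem smul_mem_ext {L : Submodule (MvPolynomial σ R) (ι → MvPolynomial σ R)} (hL : sat a L = L)
    {c : RZExt.valRing hpair Ra} (hc : c ≠ 0) {y : ι → MvPolynomial σ (RZExt.valRing hpair Ra)}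
    (h : c • y ∈ ext vR L) : y ∈ ext vR L := by
  obtain ⟨c₀, rfl⟩ := RZExt.valMap_surjective hpair Ra c
  obtain ⟨l, hl, hly⟩ := exists_of_mem_ext vR (RZExt.valMap_surjective hpair Ra) h
  obtain ⟨w, hw⟩ : ∃ w, kL vR w = y := by
    refine ⟨fun i => (MvPolynomial.map_surjective _ (RZExt.valMap_surjective hpair Ra) (y i)).choose, funext fun i => ?_⟩
    exact (MvPolynomial.map_surjective _ (RZExt.valMap_surjective hpair Ra) (y i)).choose_spec
  obtain ⟨n, d, hd⟩ := exists_pow_eq_mul_of_ne ha hpair hc
  have hκ : kL vR (c₀ • w - l) = 0 := by rw [map_sub, kL_smul_const, hw, hly, sub_self]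
  obtain ⟨κ, hκ₁, hκ₂⟩ := exists_eq_smul vR (fun c hc => exists_div_pow ha hpair n c hc) hκ
  have h1 : a ^ n • (w - d • κ) = d • l := by
    rw [smul_sub, ← hd, mul_comm c₀ d, mul_smul, smul_comm (d * c₀) d κ, hd.symm.trans (mul_comm c₀ d) |>.symm,
      ← hκ₁]
    module
  have h2 : w - d • κ ∈ L := hL ▸ (mem_sat.2 ⟨n, h1 ▸ Submodule.smul_of_tower_mem L d hl⟩)
  have h3 := kL_mem_ext vR h2
  rwa [map_sub, kL_smul_const, hκ₂, smul_zero, sub_zero, hw] at h3

include ha in
/-- over the valuation ring the image is flat and finitely presented -/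
theorem valRing_flat_fg [Finite σ] {L : Submodule (MvPolynomial σ R) (ι → MvPolynomial σ R)} (hL : sat a L = L) :
    Module.Flat (RZExt.valRing hpair Ra) ((ι → MvPolynomial σ (RZExt.valRing hpair Ra)) ⧸ ext vR L) ∧
      (ext vR L).FG := by
  let V := RZExt.valRing hpair Ra
  let W := ext vR L
  let M := (ι → MvPolynomial σ V) ⧸ W
  have htors : Submodule.torsion V M = ⊥ := by
    rw [eq_bot_iff]
    rintro m ⟨⟨c, hc⟩, hm⟩
    obtain ⟨y, rfl⟩ := Submodule.Quotient.mk_surjective W m
    rw [Submonoid.smul_def, ← Submodule.Quotient.mk_smul, Submodule.Quotient.mk_eq_zero] at hm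
    rw [Submodule.mem_bot, Submodule.Quotient.mk_eq_zero]
    exact smul_mem_ext ha hpair hL (nonZeroDivisors.ne_zero hc) hm
  haveI : Module.Flat V M := Module.Flat.flat_iff_torsion_eq_bot_of_isBezout.2 htors
  haveI : Module.Finite (MvPolynomial σ V) M := Module.Finite.of_surjective W.mkQ (Submodule.mkQ_surjective W)
  haveI := RG.finitePresentation_of_flat_ft (R := V) (S := MvPolynomial σ V) M
  refine ⟨inferInstance, ?_⟩
  have h := Module.FinitePresentation.fg_ker W.mkQ (Submodule.mkQ_surjective W)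
  rwa [Submodule.ker_mkQ] at h

include ha hpair in
/-- a saturated relation module generically flat has a flat quotient -/
theorem flat_of_sat [Finite σ] {L : Submodule (MvPolynomial σ R) (ι → MvPolynomial σ R)} (hL : sat a L = L)
    (hgen : Module.Flat Ra ((ι → MvPolynomial σ Ra) ⧸ ext (algebraMap R Ra) L)) :
    Module.Flat R ((ι → MvPolynomial σ R) ⧸ L) := by
  let N := (ι → MvPolynomial σ R) ⧸ L
  let I : Ideal R := Ideal.span {a}
  have hreg : IsSMulRegular N a := by
    rw [isSMulRegular_iff_right_eq_zero_of_smul]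
    intro m hm
    obtain ⟨y, rfl⟩ := Submodule.Quotient.mk_surjective L m
    rw [← Submodule.Quotient.mk_smul, Submodule.Quotient.mk_eq_zero] at hm
    rw [Submodule.Quotient.mk_eq_zero, ← hL]
    exact ⟨1, by rwa [pow_one]⟩
  haveI : IsLocalizedModule (Submonoid.powers a) (quotMap (A' := Ra) L) :=
    (isLocalizedModule_iff_isBaseChange (Submonoid.powers a) Ra _).2 (isBaseChange_quotMap L)
  haveI : Module.Flat Ra (LocalizedModule (Submonoid.powers a) N) :=
    Module.Flat.of_linearEquiv ((IsLocalizedModule.iso (Submonoid.powers a)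
      (quotMap (A' := Ra) L)).extendScalarsOfIsLocalization (Submonoid.powers a) Ra)
  have hker : ∀ c, vR c = 0 → Ideal.Quotient.mk I c = 0 := fun c hc => by
    obtain ⟨c', rfl, -⟩ := exists_div_pow ha hpair 1 c hc
    rw [Ideal.Quotient.eq_zero_iff_mem, pow_one]
    exact Ideal.mem_span_singleton.2 ⟨c', rfl⟩
  let g : RZExt.valRing hpair Ra →+* R ⧸ I :=
    RingHom.liftOfSurjective vR (RZExt.valMap_surjective hpair Ra) ⟨Ideal.Quotient.mk I, fun c hc =>
      hker c hc⟩
  have hg : g.comp vR = algebraMap R (R ⧸ I) := RingHom.liftOfRightInverse_comp _ _ _ _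
  haveI : Module.Flat (R ⧸ I) ((ι → MvPolynomial σ (R ⧸ I)) ⧸ ext (algebraMap R (R ⧸ I)) L) :=
    flat_quot_congr (by rw [ext_ext, hg]) (flat_quot_ext g (valRing_flat_fg ha hpair hL).1)
  haveI : Module.Flat (R ⧸ I) ((R ⧸ I) ⊗[R] N) :=
    Module.Flat.of_linearEquiv (isBaseChange_quotMap (A' := R ⧸ I) L).equiv
  exact LocalCrit.flat_of_away_of_quotient ha hreg

include ha hpair in
/-- a saturated relation module generically generated by a finitely generated one is finitely generated -/
theorem fg_sat [Finite σ] {K : Submodule (MvPolynomial σ R) (ι → MvPolynomial σ R)} (hK : K.FG)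
    (hflat : Module.Flat R ((ι → MvPolynomial σ R) ⧸ sat a K)) : (sat a K).FG := by
  classical
  let L := sat a K
  obtain ⟨T, hT⟩ := (valRing_flat_fg ha hpair (L := L) (sat_sat a K)).2
  choose lift hlift hlift' using fun t : T =>
    exists_of_mem_ext vR (RZExt.valMap_surjective hpair Ra) (show t.1 ∈ ext vR L from hT ▸ Submodule.subset_span t.2)
  let J := K ⊔ Submodule.span (MvPolynomial σ R) (Set.range lift)
  have hJL : J ≤ L := sup_le (le_sat _ _) (Submodule.span_le.2 (by rintro _ ⟨t, rfl⟩; exact hlift t))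
  suffices L ≤ J by
    rw [show sat a K = J from le_antisymm this hJL]
    exact hK.sup (Submodule.fg_span (Set.finite_range lift))
  intro v hv
  have himg : ext vR L ≤ ext vR J := by
    rw [← hT, Submodule.span_le]
    intro t ht
    rw [show t = kL vR (lift ⟨t, ht⟩) from (hlift' ⟨t, ht⟩).symm]
    exact kL_mem_ext _ (Submodule.mem_sup_right (Submodule.subset_span ⟨⟨t, ht⟩, rfl⟩))
  obtain ⟨j, hj, hjv⟩ := exists_of_mem_ext vR (RZExt.valMap_surjective hpair Ra) (himg (kL_mem_ext _ hv))
  suffices v - j ∈ J by simpa using add_mem this hj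
  have huL : v - j ∈ L := sub_mem hv (hJL hj)
  have hu : kL vR (v - j) = 0 := by rw [map_sub, hjv, sub_self]
  generalize v - j = u at huL hu
  let b := vb σ ι R
  have hc : ∀ r, vR (b.repr u r) = 0 := fun r => by rw [← repr_kL, hu, map_zero, Finsupp.zero_apply]
  have hsum : ∑ r : (b.repr u).support, b.repr u r.1 • b r.1 = u := by
    conv_rhs => rw [← b.linearCombination_repr u, Finsupp.linearCombination_apply, Finsupp.sum]
    exact Finset.sum_coe_sort _ fun r => b.repr u r • b r
  have hrel : ∑ r : (b.repr u).support, b.repr u r.1 • Submodule.Quotient.mk (p := L) (b r.1) = 0 := by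
    simp only [← Submodule.Quotient.mk_smul]
    rw [show (∑ r : (b.repr u).support, Submodule.Quotient.mk (p := L) (b.repr u r.1 • b r.1)) =
      Submodule.Quotient.mk (∑ r : (b.repr u).support, b.repr u r.1 • b r.1) from (map_sum L.mkQ _ _).symm, hsum,
      Submodule.Quotient.mk_eq_zero]
    exact huL
  haveI : Module.Flat R ((ι → MvPolynomial σ R) ⧸ L) := hflat
  obtain ⟨k, α, y, hy, hα⟩ := Module.Flat.isTrivialRelation_of_sum_smul_eq_zero hrel
  choose y' hy' using fun i => Submodule.Quotient.mk_surjective L (y i)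
  let l : (b.repr u).support → (ι → MvPolynomial σ R) := fun r => b r.1 - ∑ i, α r i • y' i
  have hl : ∀ r, l r ∈ L := fun r => by
    rw [← Submodule.Quotient.mk_eq_zero L, Submodule.Quotient.mk_sub, sub_eq_zero]
    refine (hy r).trans ?_
    simp only [← hy', ← Submodule.Quotient.mk_smul]
    exact (map_sum L.mkQ _ _).symm
  have hz : ∑ r : (b.repr u).support, b.repr u r.1 • ∑ i, α r i • y' i = 0 := by
    simp only [Finset.smul_sum, smul_smul]
    rw [Finset.sum_comm]
    refine Finset.sum_eq_zero fun i _ => ?_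
    rw [← Finset.sum_smul]
    exact (congrArg (· • y' i) (hα i)).trans (zero_smul _ _)
  have heq : u = ∑ r : (b.repr u).support, b.repr u r.1 • l r := by
    simp only [l, smul_sub, Finset.sum_sub_distrib]
    rw [hsum, hz, sub_zero]
  rw [heq]
  refine Submodule.sum_mem _ fun r _ => ?_
  obtain ⟨k', hk'⟩ := hl r
  obtain ⟨c', hc', -⟩ := exists_div_pow ha hpair k' _ (hc r.1)
  rw [hc', mul_comm, mul_smul]
  exact Submodule.smul_of_tower_mem J c' (Submodule.mem_sup_left hk')

include ha hpair in
/-- **Strict transforms over a semivaluation ring.** -/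
theorem good_of_semiVal [Finite σ] {K : Submodule (MvPolynomial σ R) (ι → MvPolynomial σ R)} (hK : K.FG)
    (hgen : Module.Flat Ra ((ι → MvPolynomial σ Ra) ⧸ ext (algebraMap R Ra) K)) : Good a K := by
  have hflat : Module.Flat R ((ι → MvPolynomial σ R) ⧸ sat a K) := flat_of_sat ha hpair (sat_sat a K)
    (flat_quot_congr (ext_sat_of_isUnit _ (IsLocalization.Away.algebraMap_isUnit a) K).symm hgen)
  exact ⟨fg_sat ha hpair hK hflat, hflat⟩

end Groth.Agent.FlatBlowUp
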