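import Groth.Agent.FlatBlowUp.Stage
import Groth.Agent.FlatBlowUp.SemiVal
import Groth.Agent.RZExt.Key

/-!
# An admissible blow-up making the strict transform of a relation module flat and finitely presented
-/

set_option autoImplicit false
set_option linter.style.haveILetI false
set_option backward.isDefEq.respectTransparency false
set_option backward.isDefEq.respectTransparency.types false

universe u

open CategoryTheory AlgebraicGeometry TopologicalSpace MvPolynomial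

noncomputable section

namespace Groth.Agent.FlatBlowUp

open FlatSpread RZExt

variable {S : Scheme.{u}} {U : S.Opens} {W : S.affineOpens} {σ ι : Type}

/-- the functions on a radical: an element vanishing off the union of the `c j` -/
theorem exists_pow_mem_span {X : Scheme.{u}} {V : X.Opens} (hV : IsAffineOpen V) {α : Type*} (c : α → Γ(X, V))
    (e : Γ(X, V)) (h : X.basicOpen e ≤ ⨆ j, X.basicOpen (c j)) : ∃ N, e ^ N ∈ Ideal.span (Set.range c) := by
  show e ∈ (Ideal.span (Set.range c)).radical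
  rw [Ideal.radical_eq_sInf, Ideal.mem_sInf]
  rintro p ⟨hp, hprime⟩
  by_contra he
  let z : PrimeSpectrum Γ(X, V) := ⟨p, hprime⟩
  have hz : z ∈ hV.fromSpec ⁻¹ᵁ X.basicOpen e := by rw [hV.fromSpec_preimage_basicOpen]; exact he
  obtain ⟨j, hj⟩ := Opens.mem_iSup.1 (h hz)
  have hj' : z ∈ hV.fromSpec ⁻¹ᵁ X.basicOpen (c j) := hj
  rw [hV.fromSpec_preimage_basicOpen] at hj'
  exact hj' (hp (Ideal.subset_span ⟨j, rfl⟩))

/-- the strict transform of `K` is flat and finitely presented near `t` -/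
def GoodAt (W : S.affineOpens) (K : Submodule (MvPolynomial σ Γ(S, W.1)) (ι → MvPolynomial σ Γ(S, W.1)))
    (I : Centre U) (t : I.T) : Prop :=
  ∃ (G : I.T.affineOpens) (hG : G.1 ≤ I.b ⁻¹ᵁ W.1) (e : Γ(I.T, G.1)), t ∈ G.1 ∧ e ∈ nonZeroDivisors Γ(I.T, G.1) ∧
    I.T.basicOpen e = G.1 ⊓ I.b ⁻¹ᵁ U ∧ Good e (ext (I.b.appLE W.1 G.1 hG).hom K)

variable {K : Submodule (MvPolynomial σ Γ(S, W.1)) (ι → MvPolynomial σ Γ(S, W.1))}

theorem isOpen_goodAt (I : Centre U) : IsOpen {t | GoodAt W K I t} :=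
  isOpen_iff_forall_mem_open.2 fun _ ⟨G, hG, e, htG, h⟩ =>
    ⟨G.1, fun _ hs => ⟨G, hG, e, hs, h⟩, G.1.2, htG⟩

variable [Finite ι]

theorem GoodAt.exists_gen {I J : Centre U} (h : I ≤ J) {t : J.T} (ht : GoodAt W K I (Centre.trans h t)) :
    ∃ (G : J.T.affineOpens) (hG : G.1 ≤ J.b ⁻¹ᵁ W.1) (g : Γ(J.T, G.1)), t ∈ G.1 ∧
      g ∈ nonZeroDivisors Γ(J.T, G.1) ∧ (J.ideal.comap J.b).ideal G = Ideal.span {g} ∧
      J.T.basicOpen g = G.1 ⊓ J.b ⁻¹ᵁ U ∧ Good g (ext (J.b.appLE W.1 G.1 hG).hom K) := by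
  obtain ⟨G, hG, e, htG, -, heU, hgood⟩ := ht
  obtain ⟨G', htG', hle, g, hg, hgen⟩ :=
    BlowUpLib.exists_small_generator J.isBlowUp.1 (show t ∈ Centre.trans h ⁻¹ᵁ G.1 from htG)
  have hG' : G'.1 ≤ J.b ⁻¹ᵁ W.1 := fun z hz => by
    show J.b z ∈ W.1
    rw [← Centre.b_trans_apply h]
    exact hG (hle hz)
  let φ := (Centre.trans h).appLE G.1 G'.1 hle
  have hgU : J.T.basicOpen g = G'.1 ⊓ J.b ⁻¹ᵁ U := Centre.basicOpen_eq hgen
  have hφe : J.T.basicOpen g ≤ J.T.basicOpen (φ e) := by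
    show J.T.basicOpen g ≤ J.T.basicOpen ((Centre.trans h).appLE G.1 G'.1 hle e)
    rw [hgU, Scheme.Hom.appLE, CommRingCat.comp_apply, Scheme.basicOpen_res, ← Scheme.Hom.preimage_basicOpen, heU]
    rintro z ⟨hz, hzU⟩
    refine ⟨hz, hle hz, ?_⟩
    show I.b (Centre.trans h z) ∈ U
    rw [Centre.b_trans_apply h]
    exact hzU
  obtain ⟨n, hn⟩ := exists_pow_dvd G'.2 hφe
  refine ⟨G', hG', g, htG', hg, hgen, hgU, ?_⟩
  have key : ∀ (p : J.T ⟶ S) (ep : G'.1 ≤ p ⁻¹ᵁ W.1), p = Centre.trans h ≫ I.b →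
      Good g (ext (p.appLE W.1 G'.1 ep).hom K) := by
    rintro p ep rfl
    rw [← Scheme.Hom.appLE_comp_appLE (Centre.trans h) I.b W.1 G.1 G'.1 hG hle, CommRingCat.hom_comp, ← ext_ext]
    exact hgood.map φ.hom hg hn
  exact key _ hG' (Centre.trans_b h).symm

theorem GoodAt.mono {I J : Centre U} (h : I ≤ J) {t : J.T} (ht : GoodAt W K I (Centre.trans h t)) :
    GoodAt W K J t := by
  obtain ⟨G, hG, g, htG, hg, -, hgU, hgood⟩ := GoodAt.exists_gen h ht
  exact ⟨G, hG, g, htG, hg, hgU, hgood⟩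

variable [hne : Nonempty (Centre U)] (x : Sys U) {α : Type} (c : α → Γ(S, W.1))

/-- The system of rings of a system of points, above an index. -/
def sysOf (i₀ : x.Idx) : FlatSpread.Sys.{u, u} (x.of i₀) where
  J := {j : x.Idx // i₀ ≤ j}
  G j := Γ(j.1.stage.T, j.1.nhd)
  a j := RZExt.Sys.map i₀ j.1 j.2
  ψ j := x.of j.1
  fac j := RingHom.ext fun z => x.of_map j.2 z
  nonempty := ⟨⟨i₀, le_rfl⟩⟩
  lift := by
    rintro ⟨j, hj⟩ r
    obtain ⟨i, hi, z, -, rfl, -⟩ := x.exists_of₂ j r r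
    refine ⟨⟨i, hj.trans hi⟩, RZExt.Sys.map j i hi, RingHom.ext fun w => x.of_map hi w, RingHom.ext fun w => ?_, z, rfl⟩
    exact DirectedSystem.map_map (f := fun i j h => ⇑(RZExt.Sys.map (x := x) i j h)) hj hi w
  eq := by
    rintro ⟨j, hj⟩ y hy
    obtain ⟨i, hi, e⟩ := x.of_eq_iff.1 (hy.trans (map_zero _).symm)
    refine ⟨⟨i, hj.trans hi⟩, RZExt.Sys.map j i hi, RingHom.ext fun w => x.of_map hi w, RingHom.ext fun w => ?_, ?_⟩
    · exact DirectedSystem.map_map (f := fun i j h => ⇑(RZExt.Sys.map (x := x) i j h)) hj hi w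
    · exact e.trans (map_zero _)

set_option maxHeartbeats 800000 in
theorem exists_goodAt [Finite σ] [CompactSpace S] [QuasiSeparatedSpace S]
    (hxW : ∀ I : Centre U, I.b (x.pt I) ∈ W.1) (hcU : W.1 ⊓ U ≤ ⨆ j, S.basicOpen (c j))
    (hKfg : K.FG) (hloc : ∀ j, Module.Flat (Localization.Away (c j)) ((ι → MvPolynomial σ (Localization.Away (c j))) ⧸
      ext (algebraMap Γ(S, W.1) (Localization.Away (c j))) K)) :
    ∃ J : Centre U, GoodAt W K J (x.pt J) := by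
  obtain ⟨G₀, hxG₀, hG₀W, a₀, -, ha₀⟩ :=
    BlowUpLib.exists_small_generator hne.some.isBlowUp.1 (show x.pt hne.some ∈ hne.some.b ⁻¹ᵁ W.1 from hxW _)
  let i₀ : x.Idx := ⟨hne.some, G₀.1, hxG₀⟩
  let φ₀ := hne.some.b.appLE W.1 G₀.1 hG₀W
  let a := x.of i₀ a₀
  have ha : a ∈ nonZeroDivisors x.R := x.of_mem_nonZeroDivisors (W := W) (i₀ := i₀) G₀.2 hG₀W ha₀
  have hpair : ∀ (n : ℕ) (p q : x.R), a ^ n ∈ Ideal.span {p, q} → p ∣ q ∨ q ∣ p :=
    x.dvd_or_dvd hxW (i₀ := i₀) G₀.2 hG₀W ha₀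
  haveI : Nontrivial (Localization.Away a) :=
    Function.Injective.nontrivial (injective_away ha)
  haveI : IsLocalRing (Localization.Away a) := isLocalRing_away hpair _
  have hbase : (x.of i₀).comp φ₀.hom = x.base hxW := RingHom.ext fun r => x.of_appLE hxW i₀ hG₀W r
  -- the `c j` generate the unit ideal away from `a`
  obtain ⟨N, hN⟩ := exists_pow_mem_span G₀.2 (fun j => φ₀ (c j)) a₀ (by
    rw [Centre.basicOpen_eq (I := hne.some) ha₀]
    rintro z ⟨hz, hzU⟩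
    obtain ⟨j, hj⟩ := Opens.mem_iSup.1 (hcU ⟨hG₀W hz, hzU⟩)
    refine Opens.mem_iSup.2 ⟨j, ?_⟩
    show z ∈ hne.some.T.basicOpen (hne.some.b.appLE W.1 G₀.1 hG₀W (c j))
    rw [Scheme.Hom.appLE, CommRingCat.comp_apply, Scheme.basicOpen_res, ← Scheme.Hom.preimage_basicOpen]
    exact ⟨hz, hj⟩)
  have htop : Ideal.span (Set.range fun j => ((algebraMap x.R (Localization.Away a)).comp (x.base hxW)) (c j)) = ⊤ := by
    refine Ideal.eq_top_of_isUnit_mem _ ?_ ((IsLocalization.Away.algebraMap_isUnit a).pow N)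
    have h1 := Ideal.mem_map_of_mem ((algebraMap x.R (Localization.Away a)).comp (x.of i₀)) hN
    rw [Ideal.map_span, ← Set.range_comp, map_pow] at h1
    rw [← hbase, ← RingHom.comp_assoc]
    exact h1
  have hgood : Good a (ext (x.of i₀) (ext φ₀.hom K)) := by
    rw [ext_ext, hbase]
    refine good_of_semiVal ha hpair (fg_ext _ hKfg) ?_
    rw [ext_ext]
    exact flat_ext_of_span_eq_top c hloc _ htop
  obtain ⟨⟨j, hj⟩, L, hLfg, hKL, hLsat, hLflat⟩ :=
    exists_good_stage (sysOf x i₀) a₀ (ext φ₀.hom K) (fg_ext _ hKfg) hgood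
  obtain ⟨k, hjk, hkaff, hkW, hknzd, hkU⟩ := x.exists_nice (i₀ := i₀) G₀.2 hG₀W ha₀ j hj
  refine ⟨k.stage, ⟨k.nhd, hkaff⟩, hkW, RZExt.Sys.map i₀ k (hj.trans hjk) a₀, k.mem, hknzd, hkU, ?_⟩
  let m := RZExt.Sys.map j k hjk
  have hm : m.comp (RZExt.Sys.map i₀ j hj) = RZExt.Sys.map i₀ k (hj.trans hjk) := RingHom.ext fun w =>
    DirectedSystem.map_map (f := fun i j h => ⇑(RZExt.Sys.map (x := x) i j h)) hj hjk w
  have hext : ext m (ext (RZExt.Sys.map i₀ j hj) (ext φ₀.hom K)) = ext (k.stage.b.appLE W.1 k.nhd hkW).hom K := by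
    rw [ext_ext, hm, ext_ext]
    congr 1
    exact RingHom.ext fun r => x.map_app (hj.trans hjk) hG₀W hkW r
  haveI := flat_quot_ext m hLflat
  have e1 : sat (RZExt.Sys.map i₀ k (hj.trans hjk) a₀) (ext (k.stage.b.appLE W.1 k.nhd hkW).hom K) = ext m L := by
    rw [← hext]
    refine sat_eq_of_flat hknzd (ext_mono m hKL) ((ext_mono m hLsat).trans ((ext_sat_le m _ _).trans ?_))
    rw [← hm]
    exact le_rfl
  refine ⟨e1 ▸ fg_ext m hLfg, ?_⟩
  rw [e1]
  infer_instance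

omit hne in
/-- **The admissible blow-up.** -/
theorem exists_centre_good [Finite σ] [Finite α] [CompactSpace S] [QuasiSeparatedSpace S] (hU : IsCompact (U : Set S))
    (K' : Submodule (MvPolynomial σ Γ(S, W.1)) (ι → MvPolynomial σ Γ(S, W.1))) (hKfg : K'.FG)
    (hcU : W.1 ⊓ U ≤ ⨆ j, S.basicOpen (c j))
    (hloc : ∀ j, Module.Flat (Localization.Away (c j)) ((ι → MvPolynomial σ (Localization.Away (c j))) ⧸
      ext (algebraMap Γ(S, W.1) (Localization.Away (c j))) K')) :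
    ∃ J : Centre U, ∀ t : J.T, J.b t ∈ W.1 → GoodAt W K' J t := by
  haveI := nonempty_centre U hU
  by_contra h
  push Not at h
  let B : ∀ I : Centre U, Set I.T := fun I => ((I.b ⁻¹ᵁ W.1 : I.T.Opens) : Set I.T) \ {t | GoodAt W K' I t}
  obtain ⟨p, hp, hcompat⟩ := RZExt.exists_system hU B
    (fun I => by
      have e : (B I)ᶜ = ((I.b ⁻¹ᵁ W.1 : I.T.Opens) : Set I.T)ᶜ ∪ {t | GoodAt W K' I t} := by
        ext t
        simp only [B, Set.mem_compl_iff, Set.mem_diff, Set.mem_union, not_and_or, not_not]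
      rw [e]
      exact @IsOpen.union _ _ _ (constructibleTopology I.T)
        (ConsTop.isOpen_compl_of_isCompact (I.b ⁻¹ᵁ W.1).2 (I.b.isSpectralMap.isCompact_preimage_of_isOpen W.1.2
          W.2.isCompact))
        (ConsTop.isOpen_cons_of_isOpen (isOpen_goodAt I)))
    (fun I => by obtain ⟨t, ht, hbad⟩ := h I; exact ⟨t, ht, hbad⟩)
    (fun {I J} hIJ t ht => by
      refine ⟨?_, fun hg => ht.2 (GoodAt.mono hIJ hg)⟩
      show I.b (Centre.trans hIJ t) ∈ W.1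
      rw [Centre.b_trans_apply hIJ]
      exact ht.1)
  obtain ⟨J, hJ⟩ := exists_goodAt (K := K') ⟨p, fun h => hcompat h⟩ c (fun I => (hp I).1) hcU hKfg hloc
  exact (hp J).2 hJ

end Groth.Agent.FlatBlowUp
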