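import Groth.Agent.FlatBlowUp.Reduce
import Groth.Agent.FlatModB.Basic

/-!
# The centre for an affine piece of a morphism
-/

set_option autoImplicit false
set_option linter.style.haveILetI false
set_option backward.isDefEq.respectTransparency false
set_option backward.isDefEq.respectTransparency.types false

universe u

open CategoryTheory AlgebraicGeometry TopologicalSpace Opposite MvPolynomial Groth.Agent.QC

noncomputable section

namespace Groth.Agent.FlatBlowUp

open FlatSpread RZExt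

variable {S X : Scheme.{u}}

/-- finitely many basic opens covering the trace of a quasi-compact open -/
theorem exists_cover_basicOpen [QuasiSeparatedSpace S] {U : S.Opens} (hU : IsCompact (U : Set S))
    (W : S.affineOpens) :
    ∃ (r : ℕ) (c : Fin r → Γ(S, W.1)), W.1 ⊓ U ≤ (⨆ j, S.basicOpen (c j)) ∧ ∀ j, S.basicOpen (c j) ≤ U := by
  classical
  have hc : IsCompact ((W.1 ⊓ U : S.Opens) : Set S) :=
    show IsCompact ((W.1 : Set S) ∩ U) from QuasiSeparatedSpace.inter_isCompact _ _ W.1.2 W.2.isCompact U.2 hU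
  choose c hcU hxc using fun x : (W.1 ⊓ U : S.Opens) => W.2.exists_basicOpen_le (V := W.1 ⊓ U) x x.2.1
  obtain ⟨T, hT⟩ := hc.elim_finite_subcover (fun x => (S.basicOpen (c x) : Set S)) (fun x => (S.basicOpen (c x)).2)
    (fun x hx => Set.mem_iUnion.2 ⟨⟨x, hx⟩, hxc ⟨x, hx⟩⟩)
  refine ⟨T.card, fun j => c (T.equivFin.symm j).1, fun x hx => ?_, fun j => (hcU _).trans inf_le_right⟩
  obtain ⟨i, hi, hxi⟩ := Set.mem_iUnion₂.1 (hT hx)
  exact Opens.mem_iSup.2 ⟨T.equivFin ⟨i, hi⟩, by simpa using hxi⟩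

variable (f : X ⟶ S) (U : S.Opens) (F : X.Modules)

/-- the hypotheses over `U` on the affine pieces -/
def GoodOverU : Prop :=
  ∀ (D : S.Opens) (V : X.Opens) (e : V ≤ f ⁻¹ᵁ D), IsAffineOpen D → IsAffineOpen V → D ≤ U →
    (f.appLE D V e).hom.FinitePresentation ∧ Module.FinitePresentation Γ(X, V) Γ(F, V) ∧
      (letI := FlatModB.secModule f F V D e; Module.Flat Γ(S, D) Γ(F, V))

variable {f U F}

set_option maxHeartbeats 1600000 in
/-- **The centre for a piece.** -/
theorem exists_centre_piece [CompactSpace S] [QuasiSeparatedSpace S] (hU : IsCompact (U : Set S))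
    (hgood : GoodOverU f U F) (hF : Coh.IsQCoh F) (W : S.affineOpens) {V : X.Opens} (hV : IsAffineOpen V)
    (hVW : V ≤ f ⁻¹ᵁ W.1) {n k : ℕ} (π : MvPolynomial (Fin n) Γ(S, W.1) →+* Γ(X, V))
    (hπC : ∀ a, π (C a) = (f.appLE W.1 V hVW).hom a) (hπ : Function.Surjective π) (m : Fin k → Γ(F, V))
    (hm : Submodule.span Γ(X, V) (Set.range m) = ⊤) :
    letI : Algebra Γ(S, W.1) Γ(X, V) := (f.appLE W.1 V hVW).hom.toAlgebra
    letI := FlatModB.secModule f F V W.1 hVW
    haveI : IsScalarTower Γ(S, W.1) Γ(X, V) Γ(F, V) := IsScalarTower.of_algebraMap_smul fun _ _ => rfl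
    ∃ J₀ : Centre U, ∀ J, J₀ ≤ J → ∀ t : J.T, J.b t ∈ W.1 →
      ∃ (G : J.T.affineOpens) (hG : G.1 ≤ J.b ⁻¹ᵁ W.1) (g : Γ(J.T, G.1)), t ∈ G.1 ∧
        g ∈ nonZeroDivisors Γ(J.T, G.1) ∧ (J.ideal.comap J.b).ideal G = Ideal.span {g} ∧
        Good g (ext (J.b.appLE W.1 G.1 hG).hom
          (relSub ({ π with commutes' := hπC } : MvPolynomial (Fin n) Γ(S, W.1) →ₐ[Γ(S, W.1)] Γ(X, V)) m)) := by
  let A := Γ(S, W.1)
  let B := Γ(X, V)
  letI : Algebra A B := (f.appLE W.1 V hVW).hom.toAlgebra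
  letI := FlatModB.secModule f F V W.1 hVW
  haveI : IsScalarTower A B Γ(F, V) := IsScalarTower.of_algebraMap_smul fun _ _ => rfl
  let πA : MvPolynomial (Fin n) A →ₐ[A] B := { π with commutes' := hπC }
  obtain ⟨r, c, hcU, hcU'⟩ := exists_cover_basicOpen hU W
  let φ := (f.appLE W.1 V hVW).hom
  haveI : ∀ j, IsLocalization.Away (c j) Γ(S, S.basicOpen (c j)) := fun j => W.2.isLocalization_basicOpen (c j)
  suffices key : ∀ j, (ext (algebraMap A Γ(S, S.basicOpen (c j))) (relSub πA m)).FG ∧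
      Module.Flat Γ(S, S.basicOpen (c j)) ((Fin k → MvPolynomial (Fin n) Γ(S, S.basicOpen (c j))) ⧸
        ext (algebraMap A Γ(S, S.basicOpen (c j))) (relSub πA m)) from
    exists_centre_data hU c hcU (fun j => Γ(S, S.basicOpen (c j))) (relSub πA m) (fun j => (key j).1) fun j => (key j).2
  intro j
  let D := S.basicOpen (c j)
  let A' := Γ(S, D)
  let V' := X.basicOpen (φ (c j))
  have hV' : IsAffineOpen V' := hV.basicOpen _
  have hD : IsAffineOpen D := W.2.basicOpen (c j)
  have e' : V' ≤ f ⁻¹ᵁ D := by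
    intro z hz
    rw [show V' = X.basicOpen (f.appLE W.1 V hVW (c j)) from rfl, Scheme.Hom.appLE, CommRingCat.comp_apply,
      Scheme.basicOpen_res, ← Scheme.Hom.preimage_basicOpen] at hz
    exact hz.2
  obtain ⟨hfp, hMfp, hMflat⟩ := hgood D V' e' hD hV' (hcU' j)
  let B' := Γ(X, V')
  let ψ : B →+* B' := (X.presheaf.map (homOfLE (X.basicOpen_le (φ (c j)))).op).hom
  haveI : IsLocalization.Away (φ (c j)) B' := hV.isLocalization_basicOpen _
  letI : Algebra A' B' := (f.appLE D V' e').hom.toAlgebra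
  letI := FlatModB.secModule f F V' D e'
  haveI : IsScalarTower A' B' Γ(F, V') := IsScalarTower.of_algebraMap_smul fun _ _ => rfl
  letI : Module A Γ(F, V') := Module.compHom Γ(F, V') (algebraMap A A')
  haveI : IsScalarTower A A' Γ(F, V') := IsScalarTower.of_algebraMap_smul fun _ _ => rfl
  have hψC : ∀ a, ψ (algebraMap A B a) = algebraMap A' B' (algebraMap A A' a) := fun a => by
    show ((f.appLE W.1 V hVW) ≫ X.presheaf.map _).hom a = (S.presheaf.map _ ≫ f.appLE D V' e').hom a
    rw [Scheme.Hom.appLE_map, Scheme.Hom.map_appLE]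
  letI : Module B Γ(F, V') := Module.compHom Γ(F, V') ψ
  obtain ⟨g, hg, -⟩ := LocFree.exists_resMap hF hV (φ (c j))
  haveI : IsScalarTower A B Γ(F, V') := IsScalarTower.of_algebraMap_smul fun a x => by
    show ψ (algebraMap A B a) • x = algebraMap A' B' (algebraMap A A' a) • x
    rw [hψC]
  haveI : IsLocalizedModule (Submonoid.powers (algebraMap A B (c j))) g := hg
  haveI : IsLocalizedModule (Submonoid.powers (c j)) (g.restrictScalars A) :=
    IsLocalizedModule.restrictScalars_powers (c j) g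
  have hbc : IsBaseChange A' (g.restrictScalars A) :=
    (isLocalizedModule_iff_isBaseChange (Submonoid.powers (c j)) A' _).1 inferInstance
  let π' : MvPolynomial (Fin n) A' →ₐ[A'] B' := aeval fun i => ψ (πA (MvPolynomial.X i))
  have hψX : ∀ i, ψ (πA (MvPolynomial.X i)) = π' (MvPolynomial.X i) := fun i =>
    (aeval_X (fun i => ψ (πA (MvPolynomial.X i))) i).symm
  obtain ⟨hrel, hsurj⟩ := relSub_baseChange (π := πA) hπ hm π' ψ hψC hψX
    (g.restrictScalars A) (fun b y => g.map_smul b y) hbc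
  have hπ' : Function.Surjective π' := by
    intro b'
    obtain ⟨b, ⟨_, N, rfl⟩, rfl⟩ := IsLocalization.exists_mk'_eq (Submonoid.powers (φ (c j))) b'
    obtain ⟨p, rfl⟩ := hπ b
    obtain ⟨u, hu⟩ := (IsLocalization.Away.algebraMap_isUnit (S := A') (c j)).exists_right_inv
    refine ⟨MvPolynomial.map (algebraMap A A') p * C (u ^ N), ?_⟩
    rw [map_mul, hom_comm πA π' ψ hψC hψX, MvPolynomial.algHom_C,
      IsLocalization.eq_mk'_iff_mul_eq]
    have h1 : ψ (φ (c j)) * algebraMap A' B' u = 1 := by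
      rw [show φ (c j) = algebraMap A B (c j) from rfl, hψC, ← map_mul, hu, map_one]
    show ψ (πA p) * algebraMap A' B' (u ^ N) * ψ (φ (c j) ^ N) = ψ (πA p)
    rw [mul_assoc, map_pow, map_pow, ← mul_pow, mul_comm (algebraMap A' B' u), h1, one_pow, mul_one]
  haveI : Algebra.FinitePresentation A' B' := hfp
  haveI := hMfp
  let m' : Fin k → Γ(F, V') := fun i => g (m i)
  have hm' : Submodule.span B' (Set.range m') = ⊤ := eq_top_iff.2 fun y _ => by
    obtain ⟨x, hx⟩ := hsurj y
    rw [← hx, qMap_apply]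
    exact Submodule.sum_mem _ fun i _ => Submodule.smul_mem _ _ (Submodule.subset_span (Set.mem_range_self (f := m') i))
  refine ⟨?_, ?_⟩
  · exact hrel ▸ fg_relSub hπ' hm'
  · exact flat_quot_congr hrel ((flat_quot_relSub_iff hπ' hm').2 hMflat)

end Groth.Agent.FlatBlowUp
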