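import Groth.Agent.FlatBlowUp.Sat
import Mathlib.RingTheory.FinitePresentation
import Mathlib.Algebra.Module.FinitePresentation

/-!
# Relation modules of modules over algebras of finite type
-/

set_option autoImplicit false
set_option linter.style.haveILetI false

universe u

open MvPolynomial TensorProduct

namespace Groth.Agent.FlatBlowUp

open FlatSpread

variable {A B M : Type u} [CommRing A] [CommRing B] [Algebra A B] [AddCommGroup M] [Module A M] [Module B M]
  [IsScalarTower A B M] {σ ι : Type} [Fintype ι]

/-- the map from the free module over the polynomial ring given by elements `m` -/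
noncomputable def qMap (π : MvPolynomial σ A →ₐ[A] B) (m : ι → M) : (ι → MvPolynomial σ A) →ₗ[A] M where
  toFun x := ∑ i, π (x i) • m i
  map_add' x y := by simp only [Pi.add_apply, map_add, add_smul, Finset.sum_add_distrib]
  map_smul' r x := by simp only [Pi.smul_apply, map_smul, smul_assoc, Finset.smul_sum, RingHom.id_apply]

theorem qMap_apply (π : MvPolynomial σ A →ₐ[A] B) (m : ι → M) (x : ι → MvPolynomial σ A) :
    qMap π m x = ∑ i, π (x i) • m i := rfl

theorem qMap_smul (π : MvPolynomial σ A →ₐ[A] B) (m : ι → M) (p : MvPolynomial σ A) (x : ι → MvPolynomial σ A) :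
    qMap π m (p • x) = π p • qMap π m x := by
  simp only [qMap_apply, Pi.smul_apply, smul_eq_mul, map_mul, mul_smul, Finset.smul_sum]

/-- the relations -/
def relSub (π : MvPolynomial σ A →ₐ[A] B) (m : ι → M) :
    Submodule (MvPolynomial σ A) (ι → MvPolynomial σ A) where
  carrier := {x | qMap π m x = 0}
  zero_mem' := map_zero _
  add_mem' := fun {x y} hx hy => by
    show qMap π m (x + y) = 0
    rw [map_add, (show qMap π m x = 0 from hx), (show qMap π m y = 0 from hy), add_zero]
  smul_mem' := fun p x hx => by
    show qMap π m (p • x) = 0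
    rw [qMap_smul, (show qMap π m x = 0 from hx), smul_zero]

theorem mem_relSub {π : MvPolynomial σ A →ₐ[A] B} {m : ι → M} {x : ι → MvPolynomial σ A} :
    x ∈ relSub π m ↔ qMap π m x = 0 := Iff.rfl

theorem qMap_surjective {π : MvPolynomial σ A →ₐ[A] B} (hπ : Function.Surjective π) {m : ι → M}
    (hm : Submodule.span B (Set.range m) = ⊤) : Function.Surjective (qMap π m) := fun y => by
  obtain ⟨b, hb⟩ := (Submodule.mem_span_range_iff_exists_fun B).1 (hm ▸ Submodule.mem_top (x := y))
  choose p hp using fun i => hπ (b i)
  exact ⟨p, by rw [qMap_apply]; simp only [hp]; exact hb⟩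

/-- the presentation -/
noncomputable def qEquiv {π : MvPolynomial σ A →ₐ[A] B} (hπ : Function.Surjective π) {m : ι → M}
    (hm : Submodule.span B (Set.range m) = ⊤) : ((ι → MvPolynomial σ A) ⧸ relSub π m) ≃ₗ[A] M :=
  (Submodule.Quotient.restrictScalarsEquiv A (relSub π m)).symm.trans
    ((Submodule.quotEquivOfEq _ _ (show (relSub π m).restrictScalars A = LinearMap.ker (qMap π m) from rfl)).trans
      ((qMap π m).quotKerEquivOfSurjective (qMap_surjective hπ hm)))

theorem qEquiv_mk {π : MvPolynomial σ A →ₐ[A] B} (hπ : Function.Surjective π) {m : ι → M}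
    (hm : Submodule.span B (Set.range m) = ⊤) (x : ι → MvPolynomial σ A) :
    qEquiv hπ hm (Submodule.Quotient.mk x) = qMap π m x := rfl

theorem flat_quot_relSub_iff {π : MvPolynomial σ A →ₐ[A] B} (hπ : Function.Surjective π) {m : ι → M}
    (hm : Submodule.span B (Set.range m) = ⊤) :
    Module.Flat A ((ι → MvPolynomial σ A) ⧸ relSub π m) ↔ Module.Flat A M :=
  ⟨fun _ => Module.Flat.of_linearEquiv (qEquiv hπ hm).symm, fun _ => Module.Flat.of_linearEquiv (qEquiv hπ hm)⟩

/-- a finitely presented module over a finitely presented algebra has finitely generated relations -/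
theorem fg_relSub [Finite σ] {π : MvPolynomial σ A →ₐ[A] B} (hπ : Function.Surjective π)
    [Algebra.FinitePresentation A B] [Module.FinitePresentation B M] {m : ι → M}
    (hm : Submodule.span B (Set.range m) = ⊤) : (relSub π m).FG := by
  classical
  let L := Fintype.linearCombination B m
  have hL : Function.Surjective L := fun y =>
    (Submodule.mem_span_range_iff_exists_fun B).1 (hm ▸ Submodule.mem_top (x := y))
  obtain ⟨T, hT⟩ := Module.FinitePresentation.fg_ker L hL
  obtain ⟨Z, hZ⟩ := Algebra.FinitePresentation.ker_fG_of_surjective π hπ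
  let lift : (ι → B) → (ι → MvPolynomial σ A) := fun t i => Function.surjInv hπ (t i)
  let G : Finset (ι → MvPolynomial σ A) := T.image lift ∪ (Finset.univ ×ˢ Z).image fun q => Pi.single q.1 q.2
  refine ⟨G, le_antisymm (Submodule.span_le.2 ?_) fun x hx => ?_⟩
  · intro y hy
    rcases Finset.mem_union.1 hy with hy | hy
    · obtain ⟨t, ht, rfl⟩ := Finset.mem_image.1 hy
      have h : L t = 0 := LinearMap.mem_ker.1 (hT ▸ Submodule.subset_span ht)
      rw [SetLike.mem_coe, mem_relSub, qMap_apply]
      simp only [lift, Function.surjInv_eq hπ]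
      exact (Fintype.linearCombination_apply B m t).symm.trans h
    · obtain ⟨⟨i, z⟩, hq, rfl⟩ := Finset.mem_image.1 hy
      have hz : π z = 0 := RingHom.mem_ker.1 (hZ ▸ Submodule.subset_span (Finset.mem_product.1 hq).2)
      rw [SetLike.mem_coe, mem_relSub, qMap_apply]
      refine Finset.sum_eq_zero fun j _ => ?_
      by_cases h : j = i
      · subst h; rw [Pi.single_eq_same, hz, zero_smul]
      · rw [Pi.single_eq_of_ne h, map_zero, zero_smul]
  · have hsingle : ∀ i, ∀ z ∈ RingHom.ker π, Pi.single i z ∈ Submodule.span (MvPolynomial σ A) (G : Set (ι → MvPolynomial σ A)) := by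
      intro i z hz
      rw [show RingHom.ker π = Ideal.span (Z : Set (MvPolynomial σ A)) from hZ.symm] at hz
      induction hz using Submodule.span_induction with
      | mem z hz => exact Submodule.subset_span (Finset.mem_union_right _ (Finset.mem_image.2 ⟨(i, z), Finset.mem_product.2 ⟨Finset.mem_univ i, hz⟩, rfl⟩))
      | zero => rw [Pi.single_zero]; exact zero_mem _
      | add a b _ _ ha hb => rw [Pi.single_add]; exact add_mem ha hb
      | smul p a _ ha => rw [Pi.single_smul]; exact Submodule.smul_mem _ p ha
    have key : ∀ t ∈ Submodule.span B (T : Set (ι → B)),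
        ∃ y ∈ Submodule.span (MvPolynomial σ A) (G : Set (ι → MvPolynomial σ A)), ∀ i, π (y i) = t i := by
      intro t ht
      induction ht using Submodule.span_induction with
      | mem t ht => exact ⟨lift t, Submodule.subset_span (Finset.mem_union_left _ (Finset.mem_image_of_mem _ ht)), fun i => Function.surjInv_eq hπ _⟩
      | zero => exact ⟨0, zero_mem _, fun i => map_zero π⟩
      | add a b _ _ ha hb =>
        obtain ⟨y, hy, hya⟩ := ha
        obtain ⟨y', hy', hyb⟩ := hb
        exact ⟨y + y', add_mem hy hy', fun i => by rw [Pi.add_apply, map_add, hya, hyb, Pi.add_apply]⟩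
      | smul c a _ ha =>
        obtain ⟨y, hy, hya⟩ := ha
        obtain ⟨p, rfl⟩ := hπ c
        exact ⟨p • y, Submodule.smul_mem _ p hy, fun i => by
          rw [Pi.smul_apply, smul_eq_mul, map_mul, hya, Pi.smul_apply, smul_eq_mul]⟩
    obtain ⟨y, hy, hyx⟩ := key (fun i => π (x i)) (hT.symm ▸ LinearMap.mem_ker.2
      ((Fintype.linearCombination_apply B m _).trans hx))
    have h1 : x - y = ∑ i, Pi.single i ((x - y) i) := (Finset.univ_sum_single (x - y)).symm
    rw [← sub_add_cancel x y, h1]
    exact add_mem (Submodule.sum_mem _ fun i _ => hsingle i _ (by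
      rw [RingHom.mem_ker, Pi.sub_apply, map_sub, hyx, sub_self])) hy

/-- finitely generated relations give a finitely presented module -/
theorem finitePresentation_of_fg_relSub {π : MvPolynomial σ A →ₐ[A] B} (hπ : Function.Surjective π) {m : ι → M}
    (hm : Submodule.span B (Set.range m) = ⊤) (h : (relSub π m).FG) : Module.FinitePresentation B M := by
  classical
  obtain ⟨T, hT⟩ := h
  let L := Fintype.linearCombination B m
  have hL : Function.Surjective L := fun y =>
    (Submodule.mem_span_range_iff_exists_fun B).1 (hm ▸ Submodule.mem_top (x := y))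
  refine Module.finitePresentation_of_surjective L hL ⟨T.image fun x i => π (x i), le_antisymm (Submodule.span_le.2 ?_) ?_⟩
  · intro t ht
    obtain ⟨x, hx, rfl⟩ := Finset.mem_image.1 ht
    have : x ∈ relSub π m := hT ▸ Submodule.subset_span hx
    exact LinearMap.mem_ker.2 ((Fintype.linearCombination_apply B m _).trans this)
  · intro t ht
    choose x hx using fun i => hπ (t i)
    have hxm : x ∈ relSub π m := by
      rw [mem_relSub, qMap_apply]
      simp only [hx]
      exact (Fintype.linearCombination_apply B m t).symm.trans ht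
    rw [show t = fun i => π (x i) from funext fun i => (hx i).symm]
    clear hx ht
    rw [← hT] at hxm
    induction hxm using Submodule.span_induction with
    | mem x hx => exact Submodule.subset_span (Finset.mem_image_of_mem _ hx)
    | zero => simp only [Pi.zero_apply, map_zero]; exact zero_mem _
    | add a b _ _ ha hb =>
      simp only [Pi.add_apply, map_add]
      exact add_mem ha hb
    | smul p a _ ha =>
      simp only [Pi.smul_apply, smul_eq_mul, map_mul]
      exact Submodule.smul_mem _ (π p) ha

/-- saturation corresponds to dividing by the power torsion -/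
theorem sat_relSub {M' : Type u} [AddCommGroup M'] [Module A M'] [Module B M'] [IsScalarTower A B M']
    (π : MvPolynomial σ A →ₐ[A] B) (m : ι → M) (r : M →ₗ[B] M') (e : A)
    (hr : ∀ y, r y = 0 ↔ ∃ k : ℕ, e ^ k • y = 0) :
    sat e (relSub π m) = relSub π fun i => r (m i) := by
  ext x
  have h : qMap π (fun i => r (m i)) x = r (qMap π m x) := by simp only [qMap_apply, map_sum, map_smul]
  rw [mem_sat, mem_relSub (m := fun i => r (m i)), h, hr]
  simp only [mem_relSub, map_smul]

section BaseChange

variable {A' B' M' : Type u} [CommRing A'] [CommRing B'] [Algebra A A'] [Algebra A' B'] [AddCommGroup M']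
  [Module A' M'] [Module B' M'] [IsScalarTower A' B' M'] [Module A M'] [IsScalarTower A A' M']

omit [IsScalarTower A B M] in
theorem hom_comm (π : MvPolynomial σ A →ₐ[A] B) (π' : MvPolynomial σ A' →ₐ[A'] B') (ψ : B →+* B')
    (hψC : ∀ a, ψ (algebraMap A B a) = algebraMap A' B' (algebraMap A A' a)) (hψX : ∀ i, ψ (π (X i)) = π' (X i))
    (p : MvPolynomial σ A) : π' (MvPolynomial.map (algebraMap A A') p) = ψ (π p) := by
  refine congr($(MvPolynomial.ringHom_ext (f := π'.toRingHom.comp (MvPolynomial.map (algebraMap A A')))
    (g := ψ.comp π.toRingHom) (fun a => ?_) fun i => ?_) p)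
  · change π' (MvPolynomial.map (algebraMap A A') (C a)) = ψ (π (C a))
    rw [map_C, MvPolynomial.algHom_C, MvPolynomial.algHom_C, hψC]
  · change π' (MvPolynomial.map (algebraMap A A') (X i)) = ψ (π (X i))
    rw [map_X, hψX]

/-- **Presentations commute with base change.** -/
theorem relSub_baseChange {π : MvPolynomial σ A →ₐ[A] B} (hπ : Function.Surjective π) {m : ι → M}
    (hm : Submodule.span B (Set.range m) = ⊤) (π' : MvPolynomial σ A' →ₐ[A'] B') (ψ : B →+* B')
    (hψC : ∀ a, ψ (algebraMap A B a) = algebraMap A' B' (algebraMap A A' a)) (hψX : ∀ i, ψ (π (X i)) = π' (X i))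
    (l : M →ₗ[A] M') (hl : ∀ b y, l (b • y) = ψ b • l y) (hbc : IsBaseChange A' l) :
    relSub π' (fun i => l (m i)) = ext (algebraMap A A') (relSub π m) ∧
      Function.Surjective (qMap π' fun i => l (m i)) := by
  classical
  set m' : ι → M' := fun i => l (m i)
  set W := ext (algebraMap A A') (relSub π m)
  have hq : ∀ x, qMap π' m' (kL (algebraMap A A') x) = l (qMap π m x) := fun x => by
    simp only [qMap_apply, map_sum, hl, m']
    exact Finset.sum_congr rfl fun i _ => congrArg (· • _) (hom_comm π π' ψ hψC hψX (x i))
  have hW : W ≤ relSub π' m' := by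
    refine Submodule.span_le.2 ?_
    rintro _ ⟨w, hw, rfl⟩
    rw [SetLike.mem_coe, mem_relSub, hq, mem_relSub.1 hw, map_zero]
  let q' : ((ι → MvPolynomial σ A') ⧸ W) →ₗ[A'] M' :=
    ((W.restrictScalars A').liftQ (qMap π' m') fun x hx => hW hx).comp
      (Submodule.Quotient.restrictScalarsEquiv A' W).symm.toLinearMap
  have hq' : ∀ x, q' (Submodule.Quotient.mk x) = qMap π' m' x := fun x => rfl
  have hb : Function.Bijective q' := by
    have hQ : IsBaseChange A' (quotMap (A' := A') (relSub π m)) := isBaseChange_quotMap (relSub π m)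
    let E := hQ.equiv.symm.trans ((LinearEquiv.baseChange A A' _ _ (qEquiv hπ hm)).trans hbc.equiv)
    have e : q' = E.toLinearMap := by
      refine hQ.algHom_ext _ _ fun z => ?_
      obtain ⟨x, rfl⟩ := Submodule.Quotient.mk_surjective _ z
      have h2 : E (quotMap (A' := A') (relSub π m) (Submodule.Quotient.mk x)) = l (qMap π m x) := by
        simp only [E, LinearEquiv.trans_apply]
        rw [hQ.equiv_symm_apply, LinearEquiv.baseChange_tmul, qEquiv_mk, hbc.equiv_tmul, one_smul]
      exact ((hq' _).trans (hq x)).trans h2.symm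
    rw [e]
    exact E.bijective
  refine ⟨le_antisymm (fun x hx => ?_) hW, fun y => ?_⟩
  · rw [← Submodule.Quotient.mk_eq_zero W]
    exact hb.1 ((hq' x).trans (hx.trans (map_zero q').symm))
  · obtain ⟨z, rfl⟩ := hb.2 y
    obtain ⟨x, rfl⟩ := Submodule.Quotient.mk_surjective W z
    exact ⟨x, (hq' x).symm⟩

end BaseChange

end Groth.Agent.FlatBlowUp
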