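import Groth.Agent.FlatBlowUp.Closed
import Groth.Agent.FlatBlowUp.FlatFibre
import Mathlib.AlgebraicGeometry.ZariskisMainTheorem

/-!
# A flat proper morphism quasi-finite off a Cartier divisor is finite
-/

set_option autoImplicit false
set_option linter.style.haveILetI false
set_option backward.isDefEq.respectTransparency false
set_option backward.isDefEq.respectTransparency.types false

universe u

open CategoryTheory CategoryTheory.Limits AlgebraicGeometry TopologicalSpace TensorProduct

noncomputable section

namespace Groth.Agent.FlatBlowUp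

/-- the fibre at a prime not containing `e` only depends on the localisation at `e` -/
theorem finite_fiber_of_away {A B Be : Type u} [CommRing A] [CommRing B] [CommRing Be] [Algebra A B] [Algebra A Be]
    [Algebra B Be] [IsScalarTower A B Be] {e : A} [IsLocalization.Away (algebraMap A B e) Be]
    [Algebra.QuasiFinite A Be] (q : Ideal A) [q.IsPrime] (he : e ∉ q) : Module.Finite q.ResidueField (q.Fiber B) := by
  let l : B →ₗ[A] Be := (IsScalarTower.toAlgHom A B Be).toLinearMap
  haveI : IsLocalizedModule (Submonoid.powers e) l :=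
    IsLocalizedModule.restrictScalars_powers (M := B) (N := Be) e (Algebra.linearMap B Be)
      (h := (isLocalizedModule_iff_isLocalization'
        (Submonoid.powers (algebraMap A B e)) Be).2 inferInstance)
  haveI : IsLocalizedModule (Submonoid.powers e) (AlgebraTensorModule.rTensor A q.ResidueField l) := inferInstance
  let m : q.Fiber B →ₗ[q.ResidueField] q.Fiber Be := AlgebraTensorModule.lTensor q.ResidueField q.ResidueField l
  refine Module.Finite.of_injective m ?_
  rw [injective_iff_map_eq_zero]
  intro x hx
  have key : ∀ w, (AlgebraTensorModule.rTensor A q.ResidueField l) (TensorProduct.comm A q.ResidueField B w) =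
      TensorProduct.comm A q.ResidueField Be (m w) := fun w => by
    induction w using TensorProduct.induction_on with
    | zero => simp
    | tmul c y => simp [m]
    | add p r hp hr => simp only [map_add, hp, hr]
  obtain ⟨⟨_, n, rfl⟩, hc⟩ := (IsLocalizedModule.eq_zero_iff (Submonoid.powers e)
    (AlgebraTensorModule.rTensor A q.ResidueField l) (m := TensorProduct.comm A q.ResidueField B x)).1
    (by rw [key, hx, map_zero])
  have h1 : (e ^ n) • x = 0 := (TensorProduct.comm A q.ResidueField B).injective (by rw [map_smul, map_zero]; exact hc)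
  rw [← algebraMap_smul q.ResidueField (e ^ n) x] at h1
  exact (smul_eq_zero.1 h1).resolve_left (fun h => he (by
    rw [map_pow] at h
    exact Ideal.algebraMap_residueField_eq_zero.1 (eq_zero_of_pow_eq_zero h)))

set_option maxHeartbeats 800000 in
/-- a flat proper morphism quasi-finite off a Cartier divisor is finite -/
theorem isFinite_of_flat_of_cartier {Y T : Scheme.{u}} (g : Y ⟶ T) [IsProper g] [Flat g] (E : T.IdealSheafData)
    (hE : BlowUp.IsEffCartierIdeal E) (O : T.Opens) (hO : ∀ t, t ∉ E.support → t ∈ O)
    [LocallyQuasiFinite (g ∣_ O)] : IsFinite g := by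
  suffices LocallyQuasiFinite g from IsFinite.of_isProper_of_locallyQuasiFinite g
  refine (HasRingHomProperty.iff_exists_appLE (P := @LocallyQuasiFinite)
    (RingHom.QuasiFinite.stableUnderComposition.stableUnderCompositionWithLocalizationAway
      RingHom.QuasiFinite.holdsForLocalizationAway).left).2 fun y => ?_
  obtain ⟨G, hyG, e, he, hgen⟩ := hE (g y)
  obtain ⟨V, hV, hyV, hVG⟩ := exists_isAffineOpen_mem_and_subset (X := Y) (U := g ⁻¹ᵁ G.1) hyG
  refine ⟨G, ⟨V, hV⟩, hyV, fun z hz => hVG hz, ?_⟩
  let eVG : V ≤ g ⁻¹ᵁ G.1 := fun z hz => hVG hz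
  let A := Γ(T, G.1)
  let B := Γ(Y, V)
  let φ := (g.appLE G.1 V eVG).hom
  let D := T.basicOpen e
  let V' := Y.basicOpen (φ e)
  have hDO : D ≤ O := fun t ht => hO t
    ((BlowUpLib.mem_basicOpen_of_notMem_support hgen (T.basicOpen_le e ht)).2 ht)
  have e' : V' ≤ g ⁻¹ᵁ D := by
    intro z hz
    rw [show V' = Y.basicOpen (g.appLE G.1 V eVG e) from rfl, Scheme.Hom.appLE, CommRingCat.comp_apply,
      Scheme.basicOpen_res, ← Scheme.Hom.preimage_basicOpen] at hz
    exact hz.2
  have hqf : (g.appLE D V' e').hom.QuasiFinite :=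
    appLE_of_morphismRestrict g O (Q := fun ψ => ψ.hom.QuasiFinite) (fun D V e hD hV =>
      HasRingHomProperty.appLE @LocallyQuasiFinite _ inferInstance ⟨D, hD⟩ ⟨V, hV⟩ e) e'
      (G.2.basicOpen e) (hV.basicOpen _) hDO
  haveI := G.2.isLocalization_basicOpen e
  have hres : (T.presheaf.map (homOfLE (T.basicOpen_le e)).op).hom.QuasiFinite :=
    RingHom.quasiFinite_algebraMap.2 (Algebra.QuasiFinite.of_isLocalization (R := A) (S := A) (T := Γ(T, D))
      (Submonoid.powers e))
  letI : Algebra A B := φ.toAlgebra
  letI : Algebra A Γ(Y, V') := ((Y.presheaf.map (homOfLE (Y.basicOpen_le (φ e))).op).hom.comp φ).toAlgebra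
  haveI : IsScalarTower A B Γ(Y, V') := IsScalarTower.of_algebraMap_eq fun _ => rfl
  haveI : IsLocalization.Away (algebraMap A B e) Γ(Y, V') := hV.isLocalization_basicOpen (φ e)
  haveI : Algebra.QuasiFinite A Γ(Y, V') := by
    refine RingHom.quasiFinite_algebraMap.1 ?_
    show ((g.appLE G.1 V eVG ≫ Y.presheaf.map (homOfLE (Y.basicOpen_le (φ e))).op).hom).QuasiFinite
    rw [Scheme.Hom.appLE_map, ← g.map_appLE e' (homOfLE (T.basicOpen_le e)).op, CommRingCat.hom_comp]
    exact hqf.comp hres
  haveI : Module.Flat A B := g.flat_appLE G.2 hV eVG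
  exact RingHom.quasiFinite_algebraMap.2 (quasiFinite_of_flat_of_away (A := A) (B := B) he
    fun q _ hq => finite_fiber_of_away (Be := Γ(Y, V')) q hq)

end Groth.Agent.FlatBlowUp
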