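import Groth.Agent.AICCover.Finite
import Groth.Agent.SubtrLib.AIC
import Mathlib

/-!
# Finite covers for quasi-finite subtrusive morphisms

A quasi-finite morphism with the lifting property for pairs of points has sections over absolutely
integrally closed local domains (Zariski's main theorem), hence Zariski local sections over a finite
finitely presented surjective cover.
-/

set_option autoImplicit false
set_option linter.style.haveILetI false
set_option backward.isDefEq.respectTransparency false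
set_option backward.isDefEq.respectTransparency.types false

universe u

open CategoryTheory CategoryTheory.Limits AlgebraicGeometry Opposite Scheme TopologicalSpace
open AlgebraicGeometry.Scheme AffineZariskiSite
open Groth.Agent.SubtrLib (IsAIC)

noncomputable section

namespace Groth.Agent.FlatBlowUp

/-- A quasi-finite algebra over an absolutely integrally closed local domain with a prime over the
maximal ideal containing a prime over zero has a retraction. -/
theorem exists_algHom_of_quasiFinite {O : Type u} [CommRing O] [IsLocalRing O] (hO : IsAIC O) {C : Type u}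
    [CommRing C] [Algebra O C] [Algebra.FiniteType O C] [Algebra.QuasiFinite O C] (q' q : Ideal C) [q'.IsPrime]
    [q.IsPrime] (hle : q' ≤ q) (h' : q'.comap (algebraMap O C) = ⊥)
    (h : q.comap (algebraMap O C) = IsLocalRing.maximalIdeal O) : Nonempty (C →ₐ[O] O) := by
  haveI : Algebra.FiniteType O (C ⧸ q') :=
    Algebra.FiniteType.of_surjective (Ideal.Quotient.mkₐ O q') Ideal.Quotient.mk_surjective
  haveI : Algebra.QuasiFinite O (C ⧸ q') :=
    .of_surjective_algHom (Ideal.Quotient.mkₐ O q') Ideal.Quotient.mk_surjective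
  have hinj : Function.Injective (algebraMap O (C ⧸ q')) := by
    rw [injective_iff_map_eq_zero]
    intro a ha
    exact Ideal.mem_bot.mp (h' ▸ (Ideal.Quotient.eq_zero_iff_mem.mp ha : algebraMap O C a ∈ q'))
  haveI : (q.map (Ideal.Quotient.mk q')).IsPrime :=
    Ideal.map_isPrime_of_surjective Ideal.Quotient.mk_surjective (by simpa using hle)
  obtain ⟨r, hr, hrint, H⟩ := Algebra.zariskisMainProperty_iff.mp
    (Algebra.ZariskisMainProperty.of_finiteType (R := O) (q.map (Ideal.Quotient.mk q')))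
  obtain ⟨a, rfl⟩ := hO.mem_range_of_isIntegral hrint
  have hu : IsUnit a := by
    refine not_not.mp fun hn => hr ?_
    show Ideal.Quotient.mk q' (algebraMap O C a) ∈ _
    refine Ideal.mem_map_of_mem _ ?_
    have : a ∈ q.comap (algebraMap O C) := h ▸ (IsLocalRing.mem_maximalIdeal a).mpr hn
    exact this
  have hsurj : Function.Surjective (algebraMap O (C ⧸ q')) := fun x => by
    obtain ⟨m, hm⟩ := H x
    obtain ⟨b, hb⟩ := hO.mem_range_of_isIntegral hm
    exact ⟨↑(hu.pow m).unit⁻¹ * b, by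
      rw [map_mul, hb, ← mul_assoc, ← map_pow, ← map_mul, IsUnit.val_inv_mul, map_one, one_mul]⟩
  let e := AlgEquiv.ofBijective (Algebra.ofId O (C ⧸ q')) ⟨hinj, hsurj⟩
  exact ⟨e.symm.toAlgHom.comp (Ideal.Quotient.mkₐ O q')⟩

/-- Sections over absolutely integrally closed local domains. -/
theorem exists_section_of_quasiFinite {X S : Scheme.{u}} (f : X ⟶ S) [LocallyOfFiniteType f] [LocallyQuasiFinite f]
    (hf : Subtr.UnivSSubtrusive f) {O : Type u} [CommRing O] [IsDomain O] [IsLocalRing O] (hO : IsAIC O)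
    (g : Spec (CommRingCat.of O) ⟶ S) : ∃ a : Spec (CommRingCat.of O) ⟶ X, a ≫ f = g := by
  obtain ⟨x, x', hx, h1, h2⟩ := hf _ _ _ (IsPullback.of_hasPullback f g).flip
    (IsLocalRing.specializes_closedPoint (⟨⊥, Ideal.isPrime_bot⟩ : PrimeSpectrum O))
  obtain ⟨W, hW, hxW, -⟩ := exists_isAffineOpen_mem_and_subset (x := x) (U := (⊤ : (pullback f g).Opens)) trivial
  obtain ⟨φ, hφ⟩ := Spec.map_surjective (hW.fromSpec ≫ pullback.snd f g)
  haveI : LocallyOfFiniteType (Spec.map φ) := by rw [hφ]; infer_instance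
  haveI : LocallyQuasiFinite (Spec.map φ) := by rw [hφ]; infer_instance
  have hft : φ.hom.FiniteType := (HasRingHomProperty.Spec_iff (P := @LocallyOfFiniteType)).mp ‹_›
  have hqf : φ.hom.QuasiFinite := (HasRingHomProperty.Spec_iff (P := @LocallyQuasiFinite)).mp ‹_›
  letI := φ.hom.toAlgebra
  haveI : Algebra.FiniteType O Γ(pullback f g, W) := hft
  haveI : Algebra.QuasiFinite O Γ(pullback f g, W) := hqf
  obtain ⟨w, rfl⟩ : x ∈ Set.range hW.fromSpec := by rw [hW.range_fromSpec]; exact hxW
  obtain ⟨w', rfl⟩ := hx.mem_open hW.fromSpec.isOpenEmbedding.isOpen_range ⟨w, rfl⟩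
  have hw : ∀ v, Spec.map φ v = pullback.snd f g (hW.fromSpec v) := fun v => by
    rw [hφ, Scheme.Hom.comp_apply]
  have hle := (PrimeSpectrum.le_iff_specializes w' w).mpr (hW.fromSpec.isOpenEmbedding.isInducing.specializes_iff.mp hx)
  haveI := PrimeSpectrum.isPrime w'
  haveI := PrimeSpectrum.isPrime w
  obtain ⟨σ⟩ := exists_algHom_of_quasiFinite hO w'.asIdeal w.asIdeal hle
    (congrArg PrimeSpectrum.asIdeal ((hw w').trans h2)) (congrArg PrimeSpectrum.asIdeal ((hw w).trans h1))
  obtain ⟨s, hs⟩ := AICCover.exists_hom_section φ ⟨σ⟩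
  refine ⟨s ≫ hW.fromSpec ≫ pullback.fst f g, ?_⟩
  rw [Category.assoc, Category.assoc, pullback.condition, ← Category.assoc hW.fromSpec, ← hφ,
    ← Category.assoc, hs]
  exact Category.id_comp g

open AICCover

/-- A morphism with sections over absolutely integrally closed local domains has Zariski local
sections over the cover `space S`. -/
theorem exists_local_section_of {X S : Scheme.{u}} (g : X ⟶ S) [LocallyOfFinitePresentation g]
    (hsec : ∀ (O : Type u) [CommRing O] [IsDomain O] [IsLocalRing O], IsAIC O →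
      ∀ t : Spec (CommRingCat.of O) ⟶ S, ∃ a : Spec (CommRingCat.of O) ⟶ X, a ≫ g = t) (z : space S) :
    ∃ (V : (space S).Opens) (r : (V : Scheme.{u}) ⟶ X), z ∈ V ∧ r ≫ g = V.ι ≫ proj S := by
  obtain ⟨U, hU, hzU, -⟩ := exists_isAffineOpen_mem_and_subset (x := proj S z) (U := (⊤ : S.Opens)) trivial
  let U' : S.AffineZariskiSite := ⟨U, hU⟩
  let m : Spec (CommRingCat.of (ring S U)) ⟶ space S := (chart S).f U'
  haveI : IsOpenImmersion m := (chart S).map_prop U'
  have hm : m ≫ proj S = Spec.map (CommRingCat.ofHom (toRing S U)) ≫ hU.fromSpec := chart_proj S U'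
  obtain ⟨q, hq⟩ : z ∈ Set.range m := by
    have : z ∈ proj S ⁻¹ᵁ U'.1 := hzU
    rw [proj_preimage] at this
    exact this
  haveI : q.asIdeal.IsPrime := q.2
  haveI := isDomain_localization q.asIdeal (idemSplit_ring S U)
  obtain ⟨a, ha⟩ := hsec _ (isAIC_localization q.asIdeal (isAIC_ring S U))
    (Spec.map (CommRingCat.ofHom (algebraMap (ring S U) (Localization.AtPrime q.asIdeal))) ≫ m ≫ proj S)
  obtain ⟨c, hc, b, hb⟩ := exists_spread_scheme g (m ≫ proj S) q.asIdeal a ha U hU (by
    rintro - ⟨p, rfl⟩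
    rw [hm, Scheme.Hom.comp_apply, ← hU.range_fromSpec]
    exact ⟨_, rfl⟩)
  let i : Spec (CommRingCat.of (Localization.Away c)) ⟶ space S :=
    Spec.map (CommRingCat.ofHom (algebraMap (ring S U) (Localization.Away c))) ≫ m
  haveI : IsOpenImmersion (Spec.map (CommRingCat.ofHom (algebraMap (ring S U) (Localization.Away c)))) :=
    IsOpenImmersion.of_isLocalization c
  haveI : IsOpenImmersion i := inferInstanceAs (IsOpenImmersion (_ ≫ m))
  refine ⟨i.opensRange, i.isoOpensRange.inv ≫ b, ?_, ?_⟩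
  · obtain ⟨q', hq'⟩ : q ∈ Set.range (PrimeSpectrum.comap (algebraMap (ring S U) (Localization.Away c))) := by
      rw [PrimeSpectrum.localization_away_comap_range _ c]; exact hc
    exact ⟨q', (congrArg m hq').trans hq⟩
  · rw [Category.assoc, hb, ← Category.assoc (Spec.map _) m, show Spec.map _ ≫ m = i from rfl,
      ← Category.assoc, Scheme.Hom.isoOpensRange_inv_comp]

/-- Local sections over an integral cover give local sections over a finite finitely presented cover. -/
theorem exists_finite_cover_of {X S : Scheme.{u}} [CompactSpace S] [QuasiSeparatedSpace S] (g : X ⟶ S)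
    [LocallyOfFinitePresentation g]
    (hsec : ∀ (O : Type u) [CommRing O] [IsDomain O] [IsLocalRing O], IsAIC O →
      ∀ t : Spec (CommRingCat.of O) ⟶ S, ∃ a : Spec (CommRingCat.of O) ⟶ X, a ≫ g = t) :
    ∃ (Z : Scheme.{u}) (π : Z ⟶ S), Surjective π ∧ IsFinite π ∧ LocallyOfFinitePresentation π ∧
      ∀ z : Z, ∃ (V : Z.Opens) (r : (V : Scheme.{u}) ⟶ X), z ∈ V ∧ r ≫ g = V.ι ≫ π := by
  classical
  have key : ∀ t : Finset S.affineOpens, ∃ (Z : Scheme.{u}) (π : Z ⟶ S), Surjective π ∧ IsFinite π ∧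
      LocallyOfFinitePresentation π ∧ ∀ U ∈ t, HasLocalSections g π U.1 := by
    intro t
    induction t using Finset.induction_on with
    | empty => exact ⟨S, 𝟙 S, inferInstance, inferInstance, inferInstance, by simp⟩
    | insert U t _ ih =>
      obtain ⟨Z, π, hs, hf, hp, hsecπ⟩ := ih
      obtain ⟨B, y, hys, hyf, hyp, hysec⟩ := exists_cover_affine g (proj S) (exists_local_section_of g hsec) U
      haveI := hys
      haveI := hyf
      obtain ⟨Z', π', i, hi, hs', hf', hp'⟩ := exists_extend U.1 U.2.isCompact y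
      haveI := hs; haveI := hf; haveI := hp; haveI := hs'; haveI := hf'; haveI := hp' hyp
      have hU : HasLocalSections g π' U.1 := by
        haveI : IsOpenImmersion i := MorphismProperty.of_isPullback (P := @IsOpenImmersion) hi.flip inferInstance
        intro z hz
        obtain ⟨w, hw, -⟩ := Scheme.Pullback.exists_preimage_pullback (f := π') (g := U.1.ι) z ⟨π' z, hz⟩ rfl
        obtain ⟨x, hx⟩ : ∃ x, i x = z := ⟨hi.isoPullback.inv w, by
          rw [← Scheme.Hom.comp_apply, hi.isoPullback_inv_fst]; exact hw⟩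
        obtain ⟨V, r, hxV, hr⟩ := hysec x (y x).2
        refine ⟨i ''ᵁ V, (i.isoImage V).inv ≫ r, ⟨x, hxV, hx⟩, ?_⟩
        rw [Category.assoc, hr, ← hi.w, ← Scheme.Hom.isoImage_inv_ι_assoc]
      refine ⟨pullback π π', pullback.snd π π' ≫ π', inferInstance, inferInstance, inferInstance, fun U' hU' => ?_⟩
      rcases Finset.mem_insert.1 hU' with rfl | hU'
      · exact hU.comp _
      · rw [← pullback.condition]
        exact (hsecπ U' hU').comp _
  obtain ⟨t, ht⟩ := (isCompact_univ (X := S)).elim_finite_subcover (fun U : S.affineOpens => (U.1 : Set S))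
    (fun U => U.1.2) fun s _ => by
      obtain ⟨U, hU, hsU, -⟩ := exists_isAffineOpen_mem_and_subset (x := s) (U := (⊤ : S.Opens)) trivial
      exact Set.mem_iUnion.2 ⟨⟨U, hU⟩, hsU⟩
  obtain ⟨Z, π, hs, hf, hp, hsecπ⟩ := key t
  refine ⟨Z, π, hs, hf, hp, fun z => ?_⟩
  obtain ⟨U, hU, hzU⟩ := Set.mem_iUnion₂.1 (ht (Set.mem_univ (π z)))
  exact hsecπ U hU z hzU

/-- Local sections over a quasi-compact quasi-separated scheme give a refinement by a local isomorphism. -/
theorem exists_localIso_of_sections {X S Z : Scheme.{u}} [CompactSpace Z] [QuasiSeparatedSpace Z] (g : X ⟶ S)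
    (π : Z ⟶ S) (hsec : ∀ z : Z, ∃ (V : Z.Opens) (r : (V : Scheme.{u}) ⟶ X), z ∈ V ∧ r ≫ g = V.ι ≫ π) :
    ∃ (X' : Scheme.{u}) (h : X' ⟶ X) (p : X' ⟶ Z), h ≫ g = p ≫ π ∧ Surjective p ∧ QuasiCompact p ∧
      QuasiSeparated p ∧ ∀ x : X', ∃ U : X'.Opens, x ∈ U ∧ IsOpenImmersion (U.ι ≫ p) := by
  choose V s hzV hs' using hsec
  have hW : ∀ z : Z, ∃ W : Z.Opens, IsAffineOpen W ∧ z ∈ W ∧ W ≤ V z := fun z =>
    exists_isAffineOpen_mem_and_subset (hzV z)
  choose W hW hzW hWV using hW
  obtain ⟨t, ht⟩ := (isCompact_univ (X := Z)).elim_finite_subcover (fun z => (W z : Set Z)) (fun z => (W z).2)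
    fun z _ => Set.mem_iUnion.2 ⟨z, hzW z⟩
  let F : {z // z ∈ t} → Scheme.{u} := fun k => (W k.1 : Scheme.{u})
  haveI : ∀ k, IsAffine (F k) := fun k => hW k.1
  haveI : IsAffine (∐ F) := inferInstance
  let p : ∐ F ⟶ Z := Sigma.desc fun k => (W k.1).ι
  refine ⟨∐ F, Sigma.desc fun k => Z.homOfLE (hWV k.1) ≫ s k.1, p, ?_, ⟨fun z => ?_⟩,
    QuasiCompact.of_comp p (terminal.from Z), inferInstance, fun x => ?_⟩
  · refine Sigma.hom_ext _ _ fun k => ?_
    simp only [p, Category.assoc, Sigma.ι_desc_assoc]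
    rw [hs' k.1, Scheme.homOfLE_ι_assoc]
  · obtain ⟨z', hz', hzz⟩ := Set.mem_iUnion₂.1 (ht (Set.mem_univ z))
    exact ⟨Sigma.ι F ⟨z', hz'⟩ ⟨z, hzz⟩, by rw [← Scheme.Hom.comp_apply, Sigma.ι_desc]; rfl⟩
  · obtain ⟨k, y, hy⟩ := (sigmaOpenCover F).exists_eq x
    refine ⟨(Sigma.ι F k).opensRange, ⟨y, hy⟩, ?_⟩
    haveI : IsOpenImmersion (Sigma.ι F k ≫ p) := by
      rw [Sigma.ι_desc]
      exact inferInstanceAs (IsOpenImmersion (W k.1).ι)
    rw [← Scheme.Hom.isoOpensRange_inv_comp (Sigma.ι F k), Category.assoc]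
    infer_instance

end Groth.Agent.FlatBlowUp
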