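import Groth.Agent.FlatBlowUp.Main
import Groth.Agent.FlatBlowUp.Pres

/-!
# The blow-up for an arbitrary relation module, finitely presented and flat over the open
-/

set_option autoImplicit false
set_option linter.style.haveILetI false
set_option backward.isDefEq.respectTransparency false
set_option backward.isDefEq.respectTransparency.types false

universe u

open CategoryTheory AlgebraicGeometry TopologicalSpace MvPolynomial

namespace Groth.Agent.FlatBlowUp

open FlatSpread RZExt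

/-- a finitely generated part of a relation module with the same localisations -/
theorem exists_fg_reduction {A : Type u} [CommRing A] {σ ι : Type} [Finite ι] {α : Type} [Finite α] (c : α → A)
    (Aj : α → Type u) [∀ j, CommRing (Aj j)] [∀ j, Algebra A (Aj j)] [∀ j, IsLocalization.Away (c j) (Aj j)]
    (K' : Submodule (MvPolynomial σ A) (ι → MvPolynomial σ A))
    (hfg : ∀ j, (ext (algebraMap A (Aj j)) K').FG)
    (hflat : ∀ j, Module.Flat (Aj j) ((ι → MvPolynomial σ (Aj j)) ⧸ ext (algebraMap A (Aj j)) K')) :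
    ∃ K, K.FG ∧ K ≤ K' ∧ (∀ j, ∀ v ∈ K', ∃ k : ℕ, c j ^ k • v ∈ K) ∧
      ∀ j, Module.Flat (Localization.Away (c j)) ((ι → MvPolynomial σ (Localization.Away (c j))) ⧸
        ext (algebraMap A (Localization.Away (c j))) K) := by
  classical
  have h1 : ∀ j, ∃ T : Finset (ι → MvPolynomial σ A), (∀ t ∈ T, t ∈ K') ∧
      ext (algebraMap A (Aj j)) K' = ext (algebraMap A (Aj j)) (Submodule.span _ (T : Set (ι → MvPolynomial σ A))) := by
    intro j
    obtain ⟨F, hFsub, hF⟩ := (Submodule.fg_span_iff_fg_span_finset_subset _).1 (hfg j)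
    choose pre hpre hpre' using fun y : F => hFsub y.2
    refine ⟨Finset.univ.image pre, fun t ht => ?_, le_antisymm ?_ (ext_mono _ (Submodule.span_le.2 fun t ht => ?_))⟩
    · obtain ⟨y, -, rfl⟩ := Finset.mem_image.1 ht; exact hpre y
    · refine hF.le.trans (Submodule.span_le.2 fun y hy => ?_)
      rw [show y = kL (algebraMap A (Aj j)) (pre ⟨y, hy⟩) from (hpre' ⟨y, hy⟩).symm]
      exact kL_mem_ext _ (Submodule.subset_span (Finset.mem_image_of_mem _ (Finset.mem_univ _)))
    · obtain ⟨y, -, rfl⟩ := Finset.mem_image.1 ht; exact hpre y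
  choose T hT hTe using h1
  haveI := Fintype.ofFinite α
  let K : Submodule (MvPolynomial σ A) (ι → MvPolynomial σ A) := ⨆ j, Submodule.span _ (T j : Set (ι → MvPolynomial σ A))
  have hKK' : K ≤ K' := iSup_le fun j => Submodule.span_le.2 (hT j)
  have he : ∀ j, ext (algebraMap A (Aj j)) K = ext (algebraMap A (Aj j)) K' := fun j =>
    le_antisymm (ext_mono _ hKK') ((hTe j).le.trans (ext_mono _ (le_iSup (fun j => Submodule.span _ (T j : Set (ι → MvPolynomial σ A))) j)))
  refine ⟨K, Submodule.fg_iSup _ fun j => Submodule.fg_span (Finset.finite_toSet _), hKK', fun j v hv => ?_, fun j => ?_⟩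
  · haveI : IsLocalizedModule (Submonoid.powers (c j)) (quotMap (A' := Aj j) K) :=
      (isLocalizedModule_iff_isBaseChange (Submonoid.powers (c j)) (Aj j) _).2 (isBaseChange_quotMap K)
    have h0 : quotMap (A' := Aj j) K (Submodule.Quotient.mk v) = 0 := by
      rw [quotMap_mk, Submodule.Quotient.mk_eq_zero, he]
      exact kL_mem_ext _ hv
    obtain ⟨⟨_, k, rfl⟩, hk⟩ := (IsLocalizedModule.eq_zero_iff (Submonoid.powers (c j)) (quotMap (A' := Aj j) K)).1 h0
    refine ⟨k, ?_⟩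
    rw [← Submodule.Quotient.mk_eq_zero K, Submodule.Quotient.mk_smul]
    exact hk
  · let ψ : Aj j →+* Localization.Away (c j) := IsLocalization.Away.lift (c j) (IsLocalization.Away.algebraMap_isUnit (c j))
    refine flat_quot_congr ?_ (flat_quot_ext ψ (flat_quot_congr (he j).symm (hflat j)))
    rw [ext_ext, IsLocalization.Away.lift_comp]

variable {S : Scheme.{u}} {U : S.Opens} {W : S.affineOpens} {σ ι : Type}

set_option maxHeartbeats 400000 in
/-- **The centre for a relation module.** -/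
theorem exists_centre_data [CompactSpace S] [QuasiSeparatedSpace S] [Finite σ] [Finite ι] (hU : IsCompact (U : Set S))
    {α : Type} [Finite α] (c : α → Γ(S, W.1)) (hcU : W.1 ⊓ U ≤ ⨆ j, S.basicOpen (c j))
    (Aj : α → Type u) [∀ j, CommRing (Aj j)] [∀ j, Algebra Γ(S, W.1) (Aj j)]
    [∀ j, IsLocalization.Away (c j) (Aj j)]
    (K' : Submodule (MvPolynomial σ Γ(S, W.1)) (ι → MvPolynomial σ Γ(S, W.1)))
    (hfg : ∀ j, (ext (algebraMap Γ(S, W.1) (Aj j)) K').FG)
    (hflat : ∀ j, Module.Flat (Aj j) ((ι → MvPolynomial σ (Aj j)) ⧸ ext (algebraMap Γ(S, W.1) (Aj j)) K')) :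
    ∃ J₀ : Centre U, ∀ J, J₀ ≤ J → ∀ t : J.T, J.b t ∈ W.1 →
      ∃ (G : J.T.affineOpens) (hG : G.1 ≤ J.b ⁻¹ᵁ W.1) (g : Γ(J.T, G.1)), t ∈ G.1 ∧
        g ∈ nonZeroDivisors Γ(J.T, G.1) ∧ (J.ideal.comap J.b).ideal G = Ideal.span {g} ∧
        Good g (ext (J.b.appLE W.1 G.1 hG).hom K') := by
  obtain ⟨K, hK, hKK', hpow, hloc⟩ := exists_fg_reduction c Aj K' hfg hflat
  obtain ⟨J₀, hJ₀⟩ := exists_centre_good c hU K hK hcU hloc
  refine ⟨J₀, fun J hJ t ht => ?_⟩
  have ht' : J₀.b (Centre.trans hJ t) ∈ W.1 := by rw [Centre.b_trans_apply hJ]; exact ht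
  obtain ⟨G, hG, g, htG, hg, hgen, hgU, hgood⟩ := GoodAt.exists_gen hJ (hJ₀ _ ht')
  refine ⟨G, hG, g, htG, hg, hgen, ?_⟩
  obtain ⟨N, hN⟩ := exists_pow_mem_span G.2 (fun j => J.b.appLE W.1 G.1 hG (c j)) g (by
    rw [hgU]
    rintro z ⟨hz, hzU⟩
    obtain ⟨j, hj⟩ := Opens.mem_iSup.1 (hcU ⟨hG hz, hzU⟩)
    refine Opens.mem_iSup.2 ⟨j, ?_⟩
    rw [Scheme.Hom.appLE, CommRingCat.comp_apply, Scheme.basicOpen_res, ← Scheme.Hom.preimage_basicOpen]
    exact ⟨hz, hj⟩)
  have e := sat_ext_eq_of_pow c hKK' hpow (J.b.appLE W.1 G.1 hG).hom (e := g) (N := N) hN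
  refine ⟨e ▸ hgood.1, ?_⟩
  rw [e]
  exact hgood.2

end Groth.Agent.FlatBlowUp
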