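import Groth.Agent.FlatSpread.Tensor
import Mathlib.RingTheory.Flat.TorsionFree
import Mathlib.RingTheory.Flat.Localization
import Mathlib.RingTheory.Localization.Away.Basic

/-!
# Saturation of a relation module with respect to one element
-/

set_option autoImplicit false
set_option linter.style.haveILetI false

universe u

open MvPolynomial TensorProduct

namespace Groth.Agent.FlatBlowUp

open FlatSpread

variable {R R' R'' : Type u} [CommRing R] [CommRing R'] [CommRing R''] {σ ι : Type}

theorem kL_smul_const (φ : R →+* R') (r : R) (v : ι → MvPolynomial σ R) : kL φ (r • v) = φ r • kL φ v := by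
  rw [← C_smul, kL_C_smul, C_smul]

theorem fg_ext (φ : R →+* R') {W : Submodule (MvPolynomial σ R) (ι → MvPolynomial σ R)} (hW : W.FG) :
    (ext φ W).FG := by
  classical
  obtain ⟨T, hT⟩ := hW
  refine ⟨T.image (kL φ), le_antisymm (Submodule.span_le.2 ?_) (Submodule.span_le.2 ?_)⟩
  · rw [Finset.coe_image]
    rintro _ ⟨x, hx, rfl⟩
    exact kL_mem_ext φ (hT ▸ Submodule.subset_span hx)
  · rintro _ ⟨w, hw, rfl⟩
    rw [SetLike.mem_coe, ← hT] at hw
    induction hw using Submodule.span_induction with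
    | mem x hx => exact Submodule.subset_span (by rw [Finset.coe_image]; exact ⟨x, hx, rfl⟩)
    | zero => rw [map_zero]; exact zero_mem _
    | add a b _ _ ha hb => rw [map_add]; exact add_mem ha hb
    | smul p a _ ha => rw [LinearMap.map_smulₛₗ]; exact Submodule.smul_mem _ _ ha

theorem ext_mono (φ : R →+* R') {K L : Submodule (MvPolynomial σ R) (ι → MvPolynomial σ R)} (h : K ≤ L) :
    ext φ K ≤ ext φ L :=
  Submodule.span_mono (Set.image_mono h)

theorem ext_id (K : Submodule (MvPolynomial σ R) (ι → MvPolynomial σ R)) : ext (RingHom.id R) K = K := by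
  have : ∀ w : ι → MvPolynomial σ R, kL (RingHom.id R) w = w := fun w => funext fun i => by
    change MvPolynomial.map (RingHom.id R) (w i) = w i
    rw [MvPolynomial.map_id]
  refine le_antisymm (Submodule.span_le.2 ?_) fun w hw => ?_
  · rintro _ ⟨w, hw, rfl⟩; rw [this]; exact hw
  · exact this w ▸ kL_mem_ext _ hw

/-- the elements multiplied into `K` by a power of `e` -/
def sat (e : R) (K : Submodule (MvPolynomial σ R) (ι → MvPolynomial σ R)) :
    Submodule (MvPolynomial σ R) (ι → MvPolynomial σ R) where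
  carrier := {v | ∃ k : ℕ, e ^ k • v ∈ K}
  zero_mem' := ⟨0, by simp⟩
  add_mem' := by
    rintro v w ⟨k, hk⟩ ⟨l, hl⟩
    refine ⟨k + l, ?_⟩
    rw [smul_add]
    refine add_mem ?_ ?_
    · rw [add_comm, pow_add, mul_smul]; exact Submodule.smul_of_tower_mem K _ hk
    · rw [pow_add, mul_smul]; exact Submodule.smul_of_tower_mem K _ hl
  smul_mem' := by
    rintro p v ⟨k, hk⟩
    exact ⟨k, by rw [smul_comm]; exact K.smul_mem p hk⟩

theorem mem_sat {e : R} {K : Submodule (MvPolynomial σ R) (ι → MvPolynomial σ R)} {v : ι → MvPolynomial σ R} :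
    v ∈ sat e K ↔ ∃ k : ℕ, e ^ k • v ∈ K := Iff.rfl

theorem le_sat (e : R) (K : Submodule (MvPolynomial σ R) (ι → MvPolynomial σ R)) : K ≤ sat e K :=
  fun v hv => ⟨0, by rwa [pow_zero, one_smul]⟩

theorem sat_mono (e : R) {K L : Submodule (MvPolynomial σ R) (ι → MvPolynomial σ R)} (h : K ≤ L) :
    sat e K ≤ sat e L :=
  fun _ ⟨k, hk⟩ => ⟨k, h hk⟩

theorem sat_sat (e : R) (K : Submodule (MvPolynomial σ R) (ι → MvPolynomial σ R)) : sat e (sat e K) = sat e K :=
  le_antisymm (fun v ⟨k, l, hl⟩ => ⟨l + k, by rwa [pow_add, mul_smul]⟩) (le_sat _ _)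

theorem sat_le_of_dvd {e e' : R} {n : ℕ} (h : e ∣ e' ^ n) (K : Submodule (MvPolynomial σ R) (ι → MvPolynomial σ R)) :
    sat e K ≤ sat e' K := by
  rintro v ⟨k, hk⟩
  obtain ⟨d, hd⟩ := h
  refine ⟨n * k, ?_⟩
  rw [pow_mul, hd, mul_pow, mul_comm, mul_smul]
  exact Submodule.smul_of_tower_mem K _ hk

theorem ext_sat_le (φ : R →+* R') (e : R) (K : Submodule (MvPolynomial σ R) (ι → MvPolynomial σ R)) :
    ext φ (sat e K) ≤ sat (φ e) (ext φ K) := by
  refine Submodule.span_le.2 ?_
  rintro _ ⟨v, ⟨k, hk⟩, rfl⟩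
  refine ⟨k, ?_⟩
  rw [← map_pow, ← kL_smul_const]
  exact kL_mem_ext φ hk

theorem ext_sat_of_isUnit (φ : R →+* R') {e : R} (he : IsUnit (φ e))
    (K : Submodule (MvPolynomial σ R) (ι → MvPolynomial σ R)) : ext φ (sat e K) = ext φ K := by
  refine le_antisymm ?_ (ext_mono φ (le_sat _ _))
  refine (ext_sat_le φ e K).trans ?_
  rintro v ⟨k, hk⟩
  obtain ⟨u, hu⟩ := (he.pow k).exists_left_inv
  have h := Submodule.smul_of_tower_mem (ext φ K) u hk
  rwa [smul_smul, hu, one_smul] at h

/-- saturation in a flat quotient -/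
theorem sat_eq_of_flat {e : R} (he : e ∈ nonZeroDivisors R)
    {K L : Submodule (MvPolynomial σ R) (ι → MvPolynomial σ R)} (hKL : K ≤ L) (hLK : L ≤ sat e K)
    [Module.Flat R ((ι → MvPolynomial σ R) ⧸ L)] : sat e K = L := by
  refine le_antisymm ?_ hLK
  rintro v ⟨k, hk⟩
  rw [← Submodule.Quotient.mk_eq_zero L]
  refine (Module.Flat.isSMulRegular_of_nonZeroDivisors (M := (ι → MvPolynomial σ R) ⧸ L) (pow_mem he k)) ?_
  show e ^ k • Submodule.Quotient.mk (p := L) v = e ^ k • (0 : (ι → MvPolynomial σ R) ⧸ L)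
  rw [smul_zero, ← Submodule.Quotient.mk_smul, Submodule.Quotient.mk_eq_zero]
  exact hKL hk

theorem flat_quot_ext [Finite ι] (φ : R →+* R') {W : Submodule (MvPolynomial σ R) (ι → MvPolynomial σ R)}
    (h : Module.Flat R ((ι → MvPolynomial σ R) ⧸ W)) : Module.Flat R' ((ι → MvPolynomial σ R') ⧸ ext φ W) := by
  letI : Algebra R R' := φ.toAlgebra
  exact Module.Flat.of_linearEquiv (isBaseChange_quotMap (A' := R') W).equiv.symm

theorem flat_quot_congr {L L' : Submodule (MvPolynomial σ R) (ι → MvPolynomial σ R)} (e : L = L')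
    (h : Module.Flat R ((ι → MvPolynomial σ R) ⧸ L)) : Module.Flat R ((ι → MvPolynomial σ R) ⧸ L') := by
  subst e; exact h

/-- the strict transform is flat and finitely presented -/
def Good (e : R) (K : Submodule (MvPolynomial σ R) (ι → MvPolynomial σ R)) : Prop :=
  (sat e K).FG ∧ Module.Flat R ((ι → MvPolynomial σ R) ⧸ sat e K)

/-- being good is preserved by base change to a ring with a regular element of the same zero locus -/
theorem Good.map [Finite ι] {e : R} {K : Submodule (MvPolynomial σ R) (ι → MvPolynomial σ R)} (h : Good e K)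
    (φ : R →+* R') {e' : R'} (he' : e' ∈ nonZeroDivisors R') {n : ℕ} (h₁ : φ e ∣ e' ^ n) :
    Good e' (ext φ K) := by
  haveI := flat_quot_ext φ h.2
  have e1 : sat e' (ext φ K) = ext φ (sat e K) :=
    sat_eq_of_flat he' (ext_mono φ (le_sat _ _)) ((ext_sat_le φ e K).trans (sat_le_of_dvd h₁ _))
  refine ⟨e1 ▸ fg_ext φ h.1, ?_⟩
  rw [e1]; infer_instance

/-- two relation modules agreeing where the `c j` are invertible have the same saturation -/
theorem sat_ext_eq_of_pow {α : Type*} (c : α → R) {K K' : Submodule (MvPolynomial σ R) (ι → MvPolynomial σ R)}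
    (hKK' : K ≤ K') (h : ∀ j, ∀ v ∈ K', ∃ k : ℕ, c j ^ k • v ∈ K) (φ : R →+* R') {e : R'} {N : ℕ}
    (he : e ^ N ∈ Ideal.span (Set.range fun j => φ (c j))) :
    sat e (ext φ K') = sat e (ext φ K) := by
  refine le_antisymm ?_ (sat_mono e (ext_mono φ hKK'))
  rw [← sat_sat e (ext φ K)]
  refine sat_mono e (Submodule.span_le.2 ?_)
  rintro _ ⟨v, hv, rfl⟩
  let I : Ideal R' := Submodule.comap ((LinearMap.id (R := R')).smulRight (kL φ v)) ((ext φ K).restrictScalars R')
  have hI : Ideal.span (Set.range fun j => φ (c j)) ≤ I.radical := by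
    refine Ideal.span_le.2 ?_
    rintro _ ⟨j, rfl⟩
    obtain ⟨k, hk⟩ := h j v hv
    refine ⟨k, ?_⟩
    show φ (c j) ^ k • kL φ v ∈ ext φ K
    rw [← map_pow, ← kL_smul_const]
    exact kL_mem_ext φ hk
  obtain ⟨M, hM⟩ := hI he
  exact ⟨N * M, by rw [pow_mul]; exact hM⟩

/-- flatness of a quotient, tested where the `c j` are invertible -/
theorem flat_ext_of_span_eq_top [Finite ι] {α : Type*} (c : α → R)
    {K : Submodule (MvPolynomial σ R) (ι → MvPolynomial σ R)}
    (h : ∀ j, Module.Flat (Localization.Away (c j))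
      ((ι → MvPolynomial σ (Localization.Away (c j))) ⧸ ext (algebraMap R (Localization.Away (c j))) K))
    (φ : R →+* R') (htop : Ideal.span (Set.range fun j => φ (c j)) = ⊤) :
    Module.Flat R' ((ι → MvPolynomial σ R') ⧸ ext φ K) := by
  let W := ext φ K
  let s : Set R' := Set.range fun j => φ (c j)
  let Ms : s → Type u := fun r => (ι → MvPolynomial σ (Localization.Away r.1)) ⧸
    ext (algebraMap R' (Localization.Away r.1)) W
  let g : ∀ r : s, ((ι → MvPolynomial σ R') ⧸ W) →ₗ[R'] Ms r := fun r => quotMap W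
  haveI : ∀ r : s, IsLocalizedModule.Away r.1 (g r) := fun r =>
    (isLocalizedModule_iff_isBaseChange (Submonoid.powers r.1) (Localization.Away r.1) _).2
      (isBaseChange_quotMap W)
  refine Module.flat_of_isLocalized_span _ _ s htop Ms g fun r => ?_
  obtain ⟨j, hj⟩ := r.2
  have hu : IsUnit (((algebraMap R' (Localization.Away r.1)).comp φ) (c j)) := by
    rw [RingHom.comp_apply, show φ (c j) = r.1 from hj]
    exact IsLocalization.Away.algebraMap_isUnit r.1
  let ψ : Localization.Away (c j) →+* Localization.Away r.1 := IsLocalization.Away.lift (c j) hu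
  haveI : Module.Flat (Localization.Away r.1) (Ms r) := by
    refine flat_quot_congr ?_ (flat_quot_ext ψ (h j))
    rw [ext_ext, IsLocalization.Away.lift_comp, ← ext_ext]
  haveI : IsScalarTower R' (Localization.Away r.1) (Ms r) := inferInstance
  exact Module.Flat.trans R' (Localization.Away r.1) (Ms r)

end Groth.Agent.FlatBlowUp
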