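import Groth.Agent.FlatBlowUp.Sat

/-!
# A good strict transform over the limit ring comes from a stage
-/

set_option autoImplicit false
set_option linter.style.haveILetI false

universe u v

open MvPolynomial

namespace Groth.Agent.FlatBlowUp

open FlatSpread

variable {A₀ A : Type u} [CommRing A₀] [CommRing A] {α : A₀ →+* A} {σ ι : Type}

/-- The system above a stage. -/
def above (s : Sys.{u, u} α) (k : s.J) : Sys.{u, u} (s.ψ k) where
  J := Σ' l : s.J, {h : s.G k →+* s.G l // (s.ψ l).comp h = s.ψ k ∧ h.comp (s.a k) = s.a l}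
  G l := s.G l.1
  ring l := s.ring l.1
  a l := l.2.1
  ψ l := s.ψ l.1
  fac l := l.2.2.1
  nonempty := ⟨⟨k, RingHom.id _, RingHom.comp_id _, RingHom.id_comp _⟩⟩
  lift := by
    rintro ⟨l, h, h1, h2⟩ x
    obtain ⟨m, g, g1, g2, y, hy⟩ := s.lift l x
    exact ⟨⟨m, g.comp h, by rw [← RingHom.comp_assoc, g1, h1], by rw [RingHom.comp_assoc, h2, g2]⟩, g, g1, rfl, y, hy⟩
  eq := by
    rintro ⟨l, h, h1, h2⟩ y hy
    obtain ⟨m, g, g1, g2, hgy⟩ := s.eq l y hy
    exact ⟨⟨m, g.comp h, by rw [← RingHom.comp_assoc, g1, h1], by rw [RingHom.comp_assoc, h2, g2]⟩, g, g1, rfl, hgy⟩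

theorem kL_kL {R R' R'' : Type u} [CommRing R] [CommRing R'] [CommRing R''] (φ : R →+* R') (ψ : R' →+* R'')
    (v : ι → MvPolynomial σ R) : kL ψ (kL φ v) = kL (ψ.comp φ) v := funext fun i => by
  change MvPolynomial.map ψ (MvPolynomial.map φ (v i)) = _
  rw [MvPolynomial.map_map]
  rfl

/-- a vector of polynomials lifts to a stage -/
theorem lift_vec [Finite ι] (s : Sys.{u, u} α) (j : s.J) (v : ι → MvPolynomial σ A) :
    ∃ (k : s.J) (h : s.G j →+* s.G k), (s.ψ k).comp h = s.ψ j ∧ h.comp (s.a j) = s.a k ∧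
      ∃ v', kL (s.ψ k) v' = v := by
  classical
  have key : ∀ F : Finset ι, ∃ (k : s.J) (h : s.G j →+* s.G k), (s.ψ k).comp h = s.ψ j ∧ h.comp (s.a j) = s.a k ∧
      ∀ i ∈ F, ∃ q, MvPolynomial.map (s.ψ k) q = v i := by
    intro F
    induction F using Finset.induction with
    | empty => exact ⟨j, RingHom.id _, RingHom.comp_id _, RingHom.id_comp _, by simp⟩
    | insert i F _ ih =>
      obtain ⟨k, h, h1, h2, h3⟩ := ih
      obtain ⟨l, g, g1, g2, q, hq⟩ := s.lift_poly k (v i)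
      refine ⟨l, g.comp h, by rw [← RingHom.comp_assoc, g1, h1], by rw [RingHom.comp_assoc, h2, g2], fun i' hi' => ?_⟩
      rcases Finset.mem_insert.1 hi' with rfl | hi'
      · exact ⟨q, hq⟩
      · obtain ⟨q', hq'⟩ := h3 i' hi'
        exact ⟨MvPolynomial.map g q', by rw [MvPolynomial.map_map, g1, hq']⟩
  haveI := Fintype.ofFinite ι
  obtain ⟨k, h, h1, h2, h3⟩ := key Finset.univ
  choose q hq using fun i => h3 i (Finset.mem_univ i)
  exact ⟨k, h, h1, h2, q, funext hq⟩

variable (s : Sys.{u, u} α) (e : A₀) (K : Submodule (MvPolynomial σ A₀) (ι → MvPolynomial σ A₀))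

/-- finitely many elements of the saturation come from the saturation at a stage -/
theorem lift_sat [Finite ι] (F : Finset (ι → MvPolynomial σ A)) (hF : ∀ t ∈ F, t ∈ sat (α e) (ext α K)) :
    ∃ k : s.J, ∀ t ∈ F, ∃ t' ∈ sat (s.a k e) (ext (s.a k) K), kL (s.ψ k) t' = t := by
  classical
  induction F using Finset.induction with
  | empty => exact ⟨s.nonempty.some, by simp⟩
  | insert t F _ ih =>
    obtain ⟨k, hk⟩ := ih fun u hu => hF u (Finset.mem_insert_of_mem hu)
    obtain ⟨n, hn⟩ := hF t (Finset.mem_insert_self t F)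
    obtain ⟨l, h, h1, h2, t₁, ht₁⟩ := lift_vec s k t
    obtain ⟨m, g, g1, g2, n', hn', hn'e⟩ := s.lift_ext K hn l
    obtain ⟨m', g', g1', g2', heq⟩ := s.eq_vec (s.a m e ^ n • kL g t₁) n' (by
      rw [hn'e, kL_smul_const, map_pow, ← RingHom.comp_apply, s.fac, kL_kL, g1, ht₁])
    have hH : (g'.comp (g.comp h)).comp (s.a k) = s.a m' := by
      rw [RingHom.comp_assoc, RingHom.comp_assoc, h2, g2, g2']
    have hH' : (s.ψ m').comp (g'.comp (g.comp h)) = s.ψ k := by
      rw [← RingHom.comp_assoc, g1', ← RingHom.comp_assoc, g1, h1]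
    refine ⟨m', fun u hu => ?_⟩
    rcases Finset.mem_insert.1 hu with rfl | hu
    · refine ⟨kL g' (kL g t₁), ⟨n, ?_⟩, ?_⟩
      · have := kL_mem_ext g' hn'
        rw [ext_ext, g2', ← heq, kL_smul_const, map_pow, ← RingHom.comp_apply, g2'] at this
        exact this
      · rw [kL_kL, g1', kL_kL, g1, ht₁]
    · obtain ⟨t', ht', htu⟩ := hk u hu
      refine ⟨kL (g'.comp (g.comp h)) t', ?_, ?_⟩
      · have := (ext_sat_le (g'.comp (g.comp h)) (s.a k e) (ext (s.a k) K)) (kL_mem_ext _ ht')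
        rwa [ext_ext, ← RingHom.comp_apply, hH] at this
      · rw [kL_kL, hH', htu]

/-- **Descent to a stage.** -/
theorem exists_good_stage [Finite σ] [Finite ι] (hK : K.FG) (h : Good (α e) (ext α K)) :
    ∃ (j : s.J) (W : Submodule (MvPolynomial σ (s.G j)) (ι → MvPolynomial σ (s.G j))),
      W.FG ∧ ext (s.a j) K ≤ W ∧ W ≤ sat (s.a j e) (ext (s.a j) K) ∧
        Module.Flat (s.G j) ((ι → MvPolynomial σ (s.G j)) ⧸ W) := by
  classical
  obtain ⟨⟨T, hT⟩, hflat⟩ := h
  obtain ⟨k, hk⟩ := lift_sat s e K T fun t ht => hT ▸ Submodule.subset_span ht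
  choose lift hlift hlift' using fun t : T => hk t.1 t.2
  let W₁ := ext (s.a k) K ⊔ Submodule.span (MvPolynomial σ (s.G k)) (Set.range lift)
  have hW₁ : W₁.FG := (fg_ext _ hK).sup (Submodule.fg_span (Set.finite_range lift))
  have hle : W₁ ≤ sat (s.a k e) (ext (s.a k) K) :=
    sup_le (le_sat _ _) (Submodule.span_le.2 (by rintro _ ⟨t, rfl⟩; exact hlift t))
  have hext : ext (s.ψ k) W₁ = sat (α e) (ext α K) := by
    refine le_antisymm ?_ ?_
    · refine (ext_mono _ hle).trans ((ext_sat_le _ _ _).trans ?_)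
      rw [ext_ext, ← RingHom.comp_apply, s.fac]
    · rw [← hT, Submodule.span_le]
      intro t ht
      rw [show t = kL (s.ψ k) (lift ⟨t, ht⟩) from (hlift' ⟨t, ht⟩).symm]
      exact kL_mem_ext _ (Submodule.mem_sup_right (Submodule.subset_span ⟨⟨t, ht⟩, rfl⟩))
  obtain ⟨l, hl⟩ := (above s k).exists_fl_bot hW₁ ((flat_quot_iff _).1 (flat_quot_congr hext.symm hflat))
  obtain ⟨l, g, g1, g2⟩ := l
  refine ⟨l, ext g W₁, fg_ext g hW₁, ?_, ?_, (flat_quot_iff (R := s.G l) (ext g W₁)).2 hl⟩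
  · rw [← g2, ← ext_ext]
    exact ext_mono g le_sup_left
  · refine (ext_mono g hle).trans ((ext_sat_le _ _ _).trans ?_)
    rw [ext_ext, ← RingHom.comp_apply, g2]

end Groth.Agent.FlatBlowUp
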